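import Groth.Agent.RG11.LayerBC

/-!
# Base change of maps from finite free modules and their cokernels
-/

set_option linter.style.haveILetI false
set_option backward.isDefEq.respectTransparency false
set_option maxHeartbeats 1000000

universe u

open TensorProduct

namespace Groth.Agent.DevissBCHx

variable {B B' : Type u} [CommRing B] [CommRing B'] [Algebra B B']
  {M M' : Type u} [AddCommGroup M] [Module B M] [AddCommGroup M'] [Module B M'] [Module B' M']
  [IsScalarTower B B' M']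

/-- The map from a free module induced by `α` on a base change. -/
noncomputable def bcAlpha (g : M →ₗ[B] M') {r : ℕ} (α : (Fin r → B) →ₗ[B] M) :
    (Fin r → B') →ₗ[B'] M' :=
  (Pi.basisFun B' (Fin r)).constr ℕ fun j => g (α (Pi.basisFun B (Fin r) j))

variable (B') in
theorem range_bcAlpha (g : M →ₗ[B] M') {r : ℕ} (α : (Fin r → B) →ₗ[B] M) :
    LinearMap.range (bcAlpha (B' := B') g α) = Submodule.span B' (g '' (LinearMap.range α : Set M)) := by
  rw [bcAlpha, Module.Basis.constr_range]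
  refine le_antisymm (Submodule.span_mono ?_) (Submodule.span_le.mpr ?_)
  · rintro _ ⟨j, rfl⟩
    exact ⟨_, LinearMap.mem_range_self α _, rfl⟩
  · rintro _ ⟨_, ⟨x, rfl⟩, rfl⟩
    rw [← (Pi.basisFun B (Fin r)).sum_repr x, map_sum, map_sum]
    refine sum_mem fun j _ => ?_
    rw [map_smul, map_smul, ← algebraMap_smul B' ((Pi.basisFun B (Fin r)).repr x j)]
    exact Submodule.smul_mem _ _ (Submodule.subset_span ⟨j, rfl⟩)

theorem bijective_bcAlpha {g : M →ₗ[B] M'} (hg : IsBaseChange B' g) {r : ℕ} (α : (Fin r → B) →ₗ[B] M)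
    (P : Ideal B) [P.IsPrime] (P' : Ideal B') [P'.IsPrime] (h : P'.comap (algebraMap B B') = P)
    (hα : Function.Bijective (α.baseChange P.ResidueField)) :
    Function.Bijective ((bcAlpha (B' := B') g α).baseChange P'.ResidueField) := by
  let bB : Module.Basis (Fin r) B' (B' ⊗[B] (Fin r → B)) := Algebra.TensorProduct.basis B' (Pi.basisFun B (Fin r))
  let π : (Fin r → B') ≃ₗ[B'] B' ⊗[B] (Fin r → B) := (Pi.basisFun B' (Fin r)).equiv bB (Equiv.refl _)
  have h1 : bcAlpha (B' := B') g α = hg.equiv.toLinearMap ∘ₗ α.baseChange B' ∘ₗ π.toLinearMap := by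
    refine (Pi.basisFun B' (Fin r)).ext fun j => ?_
    rw [bcAlpha, Module.Basis.constr_basis]
    simp only [π, LinearMap.comp_apply, LinearEquiv.coe_coe, Module.Basis.equiv_apply, Equiv.refl_apply, bB,
      Algebra.TensorProduct.basis_apply, LinearMap.baseChange_tmul, IsBaseChange.equiv_tmul, one_smul]
  rw [h1, LinearMap.baseChange_comp, LinearMap.baseChange_comp]
  refine (?_ : Function.Bijective (hg.equiv.toLinearMap.baseChange P'.ResidueField)).comp
    ((RG11.bijective_residue_of_comap α P P' h hα).comp ?_)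
  · rw [LinearMap.baseChange_eq_ltensor]; exact (hg.equiv.lTensor _).bijective
  · rw [LinearMap.baseChange_eq_ltensor]; exact (π.lTensor _).bijective

/-- Cokernels commute with base change. -/
theorem nonempty_cokerEquiv {g : M →ₗ[B] M'} (hg : IsBaseChange B' g) {r : ℕ} (α : (Fin r → B) →ₗ[B] M)
    {M₂ M₂' : Type u} [AddCommGroup M₂] [Module B M₂] [AddCommGroup M₂'] [Module B M₂'] [Module B' M₂']
    [IsScalarTower B B' M₂'] {g₂ : M₂ →ₗ[B] M₂'} (hg₂ : IsBaseChange B' g₂)
    (e : (M ⧸ LinearMap.range α) ≃ₗ[B] M₂) :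
    Nonempty ((M' ⧸ LinearMap.range (bcAlpha (B' := B') g α)) ≃ₗ[B'] M₂') := by
  set K' := LinearMap.range (bcAlpha (B' := B') g α)
  let φ : M' →ₗ[B'] M₂' := hg.lift (g₂ ∘ₗ e.toLinearMap ∘ₗ (LinearMap.range α).mkQ)
  have hφ : ∀ m, φ (g m) = g₂ (e (Submodule.Quotient.mk m)) := fun m => hg.lift_eq _ m
  have hK : K' ≤ LinearMap.ker φ := by
    simp only [K', range_bcAlpha]
    refine Submodule.span_le.mpr ?_
    rintro _ ⟨m, hm, rfl⟩
    rw [SetLike.mem_coe, LinearMap.mem_ker, hφ, (Submodule.Quotient.mk_eq_zero _).mpr hm, map_zero, map_zero]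
  let ψ₀ : (M ⧸ LinearMap.range α) →ₗ[B] M' ⧸ K' :=
    (LinearMap.range α).liftQ ((K'.mkQ.restrictScalars B) ∘ₗ g) fun m hm => by
      refine (Submodule.Quotient.mk_eq_zero _).mpr ?_
      simp only [K', range_bcAlpha]
      exact Submodule.subset_span ⟨m, hm, rfl⟩
  let ψ : M₂' →ₗ[B'] M' ⧸ K' := hg₂.lift (ψ₀ ∘ₗ e.symm.toLinearMap)
  have hψ : ∀ m, ψ (g₂ m) = ψ₀ (e.symm m) := fun m => hg₂.lift_eq _ m
  refine ⟨LinearEquiv.ofLinearMap (K'.liftQ φ hK) ψ ?_ ?_⟩
  · refine hg₂.algHom_ext' _ _ (LinearMap.ext fun m => ?_)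
    obtain ⟨x, rfl⟩ := e.surjective m
    obtain ⟨x, rfl⟩ := Submodule.Quotient.mk_surjective _ x
    show K'.liftQ φ hK (ψ (g₂ _)) = g₂ _
    rw [hψ, e.symm_apply_apply]
    exact hφ x
  · refine Submodule.linearMap_qext _ (hg.algHom_ext' _ _ (LinearMap.ext fun m => ?_))
    show ψ (φ (g m)) = Submodule.Quotient.mk (g m)
    rw [hφ, hψ, e.symm_apply_apply]
    rfl

end Groth.Agent.DevissBCHx
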