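import Groth.Agent.DevissBCHx.CompleteData
import Groth.Agent.DevissBCHx.Coker

/-!
# Base change of a complete dévissage
-/

set_option linter.style.haveILetI false
set_option backward.isDefEq.respectTransparency false
set_option maxHeartbeats 4000000

universe u

open TensorProduct

namespace Groth.Agent.DevissBCHx

attribute [local instance] Algebra.TensorProduct.rightAlgebra

theorem exists_completeDevissage_baseChange
    (R S : Type u) [CommRing R] [CommRing S] [Algebra R S]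
    (N : Type u) [AddCommGroup N] [Module S N]
    (p : Ideal R) [p.IsPrime] (𝒟 : FlatCA.CompleteDevissage R S N p)
    (R' : Type u) [CommRing R'] [Algebra R R'] (p' : Ideal R') [p'.IsPrime] (hp : p'.LiesOver p)
    (S' : Type u) [CommRing S'] [Algebra R' S'] [Algebra R S'] [Algebra S S'] [IsScalarTower R R' S']
    [IsScalarTower R S S'] [Algebra.IsPushout R R' S S']
    (N' : Type u) [AddCommGroup N'] [Module S' N'] [Module S N'] [IsScalarTower S S' N']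
    (f : N →ₗ[S] N') (hf : IsBaseChange S' f) :
    ∃ (𝒟' : FlatCA.CompleteDevissage R' S' N' p')
      (aA : ∀ i : Fin 𝒟.n, Algebra (𝒟.A i) (𝒟'.A i)) (rA : ∀ i : Fin 𝒟.n, Algebra R (𝒟'.A i))
      (_t1 : ∀ i : Fin 𝒟.n, IsScalarTower R (R') (𝒟'.A i)) (_t2 : ∀ i : Fin 𝒟.n, IsScalarTower R (𝒟.A i) (𝒟'.A i))
      (aB : ∀ i : Fin 𝒟.n, Algebra (𝒟.B i) (𝒟'.B i)) (rB : ∀ i : Fin 𝒟.n, Algebra R (𝒟'.B i))
      (_t3 : ∀ i : Fin 𝒟.n, IsScalarTower R (R') (𝒟'.B i)) (_t4 : ∀ i : Fin 𝒟.n, IsScalarTower R (𝒟.B i) (𝒟'.B i))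
      (bA : ∀ i : Fin 𝒟.n, Algebra (𝒟.B i) (𝒟'.A i)) (_t5 : ∀ i : Fin 𝒟.n, IsScalarTower (𝒟.B i) (𝒟.A i) (𝒟'.A i))
      (_t6 : ∀ i : Fin 𝒟.n, IsScalarTower (𝒟.B i) (𝒟'.B i) (𝒟'.A i))
      (bA' : ∀ i : Fin 𝒟.n, Algebra (𝒟.B i) (𝒟'.A (i + 1)))
      (_t7 : ∀ i : Fin 𝒟.n, IsScalarTower (𝒟.B i) (𝒟'.B i) (𝒟'.A (i + 1)))
      (sA : Algebra S (𝒟'.A 0)) (_t8 : IsScalarTower S (S') (𝒟'.A 0))
      (mA : ∀ i : Fin 𝒟.n, Module (𝒟.A i) (𝒟'.M i)) (_t9 : ∀ i : Fin 𝒟.n, IsScalarTower (𝒟.A i) (𝒟'.A i) (𝒟'.M i))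
      (gM : ∀ i : Fin 𝒟.n, 𝒟.M i →ₗ[𝒟.A i] 𝒟'.M i),
      𝒟'.n = 𝒟.n ∧ 𝒟'.r = 𝒟.r ∧
      (letI := aA ⟨0, 𝒟.pos⟩; IsScalarTower S (𝒟.A 0) (𝒟'.A 0)) ∧
      (∀ x : N, 𝒟'.isoN (f x) = gM ⟨0, 𝒟.pos⟩ (𝒟.isoN x)) ∧
      (∀ (i : Fin 𝒟.n) (h : (i : ℕ) + 1 < 𝒟.n),
        letI := aA ⟨i + 1, h⟩; IsScalarTower (𝒟.B i) (𝒟.A (i + 1)) (𝒟'.A (i + 1))) ∧
      ∀ i : Fin 𝒟.n,
        Algebra.IsPushout R R' (𝒟.A i) (𝒟'.A i) ∧ Algebra.IsPushout R R' (𝒟.B i) (𝒟'.B i) ∧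
        IsBaseChange (𝒟'.A i) (gM i) ∧
        LinearMap.range (𝒟'.α i) =
          Submodule.span (𝒟'.B i) ((gM i) '' (LinearMap.range (𝒟.α i) : Set (𝒟.M i))) := by
  classical
  letI aBA : ∀ i, Algebra (BI 𝒟 R' i) (AI 𝒟 R' i) := fun i => (bToA 𝒟 R' i).toRingHom.toAlgebra
  letI aBA' : ∀ i, Algebra (BI 𝒟 R' i) (AI 𝒟 R' (i + 1)) := fun i => (bToA' 𝒟 R' i).toRingHom.toAlgebra
  haveI tRBA : ∀ i, IsScalarTower R' (BI 𝒟 R' i) (AI 𝒟 R' i) := fun i =>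
    IsScalarTower.of_algebraMap_eq fun r => ((bToA 𝒟 R' i).commutes r).symm
  haveI tRBA' : ∀ i, IsScalarTower R' (BI 𝒟 R' i) (AI 𝒟 R' (i + 1)) := fun i =>
    IsScalarTower.of_algebraMap_eq fun r => ((bToA' 𝒟 R' i).commutes r).symm
  letI mBM : ∀ i, Module (BI 𝒟 R' i) (MI 𝒟 R' i) := fun i => Module.compHom _ (bToA 𝒟 R' i).toRingHom
  letI mB'M : ∀ i, Module (BI 𝒟 R' i) (MI 𝒟 R' (i + 1)) := fun i => Module.compHom _ (bToA' 𝒟 R' i).toRingHom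
  haveI tBAM : ∀ i, IsScalarTower (BI 𝒟 R' i) (AI 𝒟 R' i) (MI 𝒟 R' i) := fun i =>
    IsScalarTower.of_algebraMap_smul fun _ _ => rfl
  haveI tB'AM : ∀ i, IsScalarTower (BI 𝒟 R' i) (AI 𝒟 R' (i + 1)) (MI 𝒟 R' (i + 1)) := fun i =>
    IsScalarTower.of_algebraMap_smul fun _ _ => rfl
  haveI tRBM : ∀ i, IsScalarTower R' (BI 𝒟 R' i) (MI 𝒟 R' i) := fun i =>
    IsScalarTower.of_algebraMap_smul fun r x => by
      rw [← algebraMap_smul (AI 𝒟 R' i) (algebraMap R' (BI 𝒟 R' i) r) x,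
        ← IsScalarTower.algebraMap_apply, algebraMap_smul]
  -- the algebras at the steps
  letI aB : ∀ i : Fin 𝒟.n, Algebra (𝒟.B i) (BI 𝒟 R' i) := fun i => (bInc 𝒟 R' i).toAlgebra
  haveI t4 : ∀ i : Fin 𝒟.n, IsScalarTower R (𝒟.B i) (BI 𝒟 R' i) := fun i =>
    IsScalarTower.of_algebraMap_eq fun r => (algebraMap_bInc 𝒟 R' i r).symm
  haveI poB : ∀ i : Fin 𝒟.n, Algebra.IsPushout R R' (𝒟.B i) (BI 𝒟 R' i) := fun i => isPushout_B 𝒟 R' i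
  haveI poA : ∀ i : Fin 𝒟.n, Algebra.IsPushout R R' (𝒟.A i) (AI 𝒟 R' i) := fun i => isPushout_A 𝒟 R' i i.2
  letI bA : ∀ i : Fin 𝒟.n, Algebra (𝒟.B i) (AI 𝒟 R' i) := fun i =>
    ((algebraMap (𝒟.A i) (AI 𝒟 R' i)).comp (algebraMap (𝒟.B i) (𝒟.A i))).toAlgebra
  haveI t5 : ∀ i : Fin 𝒟.n, IsScalarTower (𝒟.B i) (𝒟.A i) (AI 𝒟 R' i) := fun i =>
    IsScalarTower.of_algebraMap_eq fun _ => rfl
  haveI t6 : ∀ i : Fin 𝒟.n, IsScalarTower (𝒟.B i) (BI 𝒟 R' i) (AI 𝒟 R' i) := fun i =>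
    IsScalarTower.of_algebraMap_eq fun b => (bToA_bInc 𝒟 R' i b).symm
  letI bA' : ∀ i : Fin 𝒟.n, Algebra (𝒟.B i) (AI 𝒟 R' (i + 1)) := fun i =>
    ((algebraMap (𝒟.A (i + 1)) (AI 𝒟 R' (i + 1))).comp (algebraMap (𝒟.B i) (𝒟.A (i + 1)))).toAlgebra
  haveI t7 : ∀ i : Fin 𝒟.n, IsScalarTower (𝒟.B i) (BI 𝒟 R' i) (AI 𝒟 R' (i + 1)) := fun i =>
    IsScalarTower.of_algebraMap_eq fun b => (bToA'_bInc 𝒟 R' i b).symm
  haveI t7' : ∀ i : Fin 𝒟.n, IsScalarTower (𝒟.B i) (𝒟.A (i + 1)) (AI 𝒟 R' (i + 1)) := fun i =>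
    IsScalarTower.of_algebraMap_eq fun _ => rfl
  -- the map from `S'`
  let sMap : S' →ₐ[R'] AI 𝒟 R' 0 :=
    ((aEquiv 𝒟 R' 0 𝒟.pos).toAlgHom.comp (Algebra.TensorProduct.map (AlgHom.id R' R')
      (IsScalarTower.toAlgHom R S (𝒟.A 0)))).comp (Algebra.IsPushout.equiv R R' S S').symm.toAlgHom
  letI aS : Algebra S' (AI 𝒟 R' 0) := sMap.toRingHom.toAlgebra
  haveI tRSA : IsScalarTower R' S' (AI 𝒟 R' 0) := IsScalarTower.of_algebraMap_eq fun r => (sMap.commutes r).symm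
  letI sA : Algebra S (AI 𝒟 R' 0) := ((algebraMap (𝒟.A 0) (AI 𝒟 R' 0)).comp (algebraMap S (𝒟.A 0))).toAlgebra
  haveI t0 : IsScalarTower S (𝒟.A 0) (AI 𝒟 R' 0) := IsScalarTower.of_algebraMap_eq fun _ => rfl
  have hsMap : ∀ s : S, sMap (algebraMap S S' s) = algebraMap (𝒟.A 0) (AI 𝒟 R' 0) (algebraMap S (𝒟.A 0) s) := by
    intro s
    show aEquiv 𝒟 R' 0 𝒟.pos (Algebra.TensorProduct.map _ _
      ((Algebra.IsPushout.equiv R R' S S').symm (algebraMap S S' s))) = _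
    rw [Algebra.IsPushout.equiv_symm_algebraMap_right, Algebra.TensorProduct.map_tmul]
    rfl
  haveI t8 : IsScalarTower S S' (AI 𝒟 R' 0) := IsScalarTower.of_algebraMap_eq fun s => (hsMap s).symm
  letI mSM : Module S' (MI 𝒟 R' 0) := Module.compHom _ sMap.toRingHom
  haveI tSAM : IsScalarTower S' (AI 𝒟 R' 0) (MI 𝒟 R' 0) := IsScalarTower.of_algebraMap_smul fun _ _ => rfl
  letI mS : Module S (MI 𝒟 R' 0) := Module.compHom _ (algebraMap S (𝒟.A 0))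
  haveI : IsScalarTower S (𝒟.A 0) (MI 𝒟 R' 0) := IsScalarTower.of_algebraMap_smul fun _ _ => rfl
  haveI : IsScalarTower S S' (MI 𝒟 R' 0) := IsScalarTower.of_algebraMap_smul fun s x => by
    show sMap (algebraMap S S' s) • x = algebraMap S (𝒟.A 0) s • x
    rw [hsMap, algebraMap_smul]
  haveI : Algebra.IsPushout R R' (𝒟.A 0) (AI 𝒟 R' 0) := isPushout_A 𝒟 R' 0 𝒟.pos
  haveI poS : Algebra.IsPushout S (𝒟.A 0) S' (AI 𝒟 R' 0) := isPushout_cube (R := R) (R' := R')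
  haveI poBA : ∀ i : Fin 𝒟.n, Algebra.IsPushout (𝒟.B i) (𝒟.A i) (BI 𝒟 R' i) (AI 𝒟 R' i) := fun i =>
    isPushout_cube (R := R) (R' := R')
  have poBA' : ∀ i : Fin 𝒟.n, (i : ℕ) + 1 < 𝒟.n →
      Algebra.IsPushout (𝒟.B i) (𝒟.A (i + 1)) (BI 𝒟 R' i) (AI 𝒟 R' (i + 1)) := fun i hi => by
    haveI : Algebra.IsPushout R R' (𝒟.A (i + 1)) (AI 𝒟 R' (i + 1)) := isPushout_A 𝒟 R' _ hi
    exact isPushout_cube (R := R) (R' := R')
  -- the modules over the smooth algebras of the dévissage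
  letI mB : ∀ i : Fin 𝒟.n, Module (𝒟.B i) (MI 𝒟 R' i) := fun i =>
    Module.compHom _ (algebraMap (𝒟.B i) (𝒟.A i))
  haveI : ∀ i : Fin 𝒟.n, IsScalarTower (𝒟.B i) (𝒟.A i) (MI 𝒟 R' i) := fun i =>
    IsScalarTower.of_algebraMap_smul fun _ _ => rfl
  haveI : ∀ i : Fin 𝒟.n, IsScalarTower (𝒟.B i) (BI 𝒟 R' i) (MI 𝒟 R' i) := fun i =>
    IsScalarTower.of_algebraMap_smul fun b x => by
      show bToA 𝒟 R' i (bInc 𝒟 R' i b) • x = algebraMap (𝒟.B i) (𝒟.A i) b • x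
      rw [bToA_bInc, algebraMap_smul]
  letI mB' : ∀ i : Fin 𝒟.n, Module (𝒟.B i) (MI 𝒟 R' (i + 1)) := fun i =>
    Module.compHom _ (algebraMap (𝒟.B i) (𝒟.A (i + 1)))
  haveI : ∀ i : Fin 𝒟.n, IsScalarTower (𝒟.B i) (𝒟.A (i + 1)) (MI 𝒟 R' (i + 1)) := fun i =>
    IsScalarTower.of_algebraMap_smul fun _ _ => rfl
  haveI : ∀ i : Fin 𝒟.n, IsScalarTower (𝒟.B i) (BI 𝒟 R' i) (MI 𝒟 R' (i + 1)) := fun i =>
    IsScalarTower.of_algebraMap_smul fun b x => by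
      show bToA' 𝒟 R' i (bInc 𝒟 R' i b) • x = algebraMap (𝒟.B i) (𝒟.A (i + 1)) b • x
      rw [bToA'_bInc, algebraMap_smul]
  let g : ∀ i, 𝒟.M i →ₗ[𝒟.A i] MI 𝒟 R' i := fun i => TensorProduct.mk (𝒟.A i) (AI 𝒟 R' i) (𝒟.M i) 1
  have hg : ∀ i, IsBaseChange (AI 𝒟 R' i) (g i) := fun i => TensorProduct.isBaseChange _ _ _
  have hgB : ∀ i : Fin 𝒟.n, IsBaseChange (BI 𝒟 R' i) ((g i).restrictScalars (𝒟.B i)) := fun i =>
    FlatPureHx.isBaseChange_of_isPushout (A := 𝒟.B i) (B := 𝒟.A i) (A' := BI 𝒟 R' i) (B' := AI 𝒟 R' i) (hg i)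
  have hgB' : ∀ i : Fin 𝒟.n, (i : ℕ) + 1 < 𝒟.n →
      IsBaseChange (BI 𝒟 R' i) ((g (i + 1)).restrictScalars (𝒟.B i)) := fun i hi => by
    haveI := poBA' i hi
    exact FlatPureHx.isBaseChange_of_isPushout (A := 𝒟.B i) (B := 𝒟.A (i + 1)) (A' := BI 𝒟 R' i)
      (B' := AI 𝒟 R' (i + 1)) (hg (i + 1))
  have hgS : IsBaseChange S' ((g 0).restrictScalars S) :=
    FlatPureHx.isBaseChange_of_isPushout (A := S) (B := 𝒟.A 0) (A' := S') (B' := AI 𝒟 R' 0) (hg 0)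
  let α' : ∀ i, (Fin (𝒟.r i) → BI 𝒟 R' i) →ₗ[BI 𝒟 R' i] MI 𝒟 R' i := fun i =>
    if hi : i < 𝒟.n then bcAlpha (B' := BI 𝒟 R' i) ((g i).restrictScalars (𝒟.B (Fin.val ⟨i, hi⟩))) (𝒟.α i) else 0
  have hα' : ∀ i : Fin 𝒟.n, α' i = bcAlpha (B' := BI 𝒟 R' i) ((g i).restrictScalars (𝒟.B i)) (𝒟.α i) :=
    fun i => dif_pos i.2
  have hsm : ∀ i : Fin 𝒟.n, Algebra.Smooth R' (BI 𝒟 R' i) := fun i => by
    haveI := 𝒟.smooth i i.2
    exact Algebra.Smooth.of_equiv (Algebra.IsPushout.equiv R R' (𝒟.B i) (BI 𝒟 R' i))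
  have hirr : ∀ i : Fin 𝒟.n, FlatCA.GeomIrredFibres R' (BI 𝒟 R' i) := fun i =>
    geomIrredFibres_baseChange (R := R) (D := 𝒟.B i) (𝒟.geomIrred i i.2)
  have hprime : ∀ i, (p'.map (algebraMap R' (BI 𝒟 R' i))).IsPrime := fun i => by
    rcases Decidable.em (i < 𝒟.n) with hi | hi
    · haveI := hsm ⟨i, hi⟩
      exact isPrime_map (hirr ⟨i, hi⟩) p'
    · exact isPrime_map_tail 𝒟 R' i hi p'
  haveI := hprime
  have hcoker : ∀ i : Fin 𝒟.n, (hi : (i : ℕ) + 1 < 𝒟.n) →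
      Nonempty ((MI 𝒟 R' i ⧸ LinearMap.range (α' i)) ≃ₗ[BI 𝒟 R' i] MI 𝒟 R' (i + 1)) := fun i hi => by
    rw [hα' i]
    exact nonempty_cokerEquiv (hgB i) (𝒟.α i) (hgB' i hi) (𝒟.isoCoker i hi)
  have hbij : ∀ i : Fin 𝒟.n,
      Function.Bijective ((α' i).baseChange (p'.map (algebraMap R' (BI 𝒟 R' i))).ResidueField) := fun i => by
    haveI := 𝒟.smooth i i.2
    haveI := hsm i
    rw [hα' i]
    exact bijective_bcAlpha (hgB i) (𝒟.α i) (p.map (algebraMap R (𝒟.B i))) _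
      (comap_map_eq_map (R := R) (R' := R') p p' hp) (𝒟.fibreIso i i.2)
  have hlast : Function.Surjective (α' (𝒟.n - 1)) := by
    have hlt : 𝒟.n - 1 < 𝒟.n := by have := 𝒟.pos; omega
    rw [← LinearMap.range_eq_top, hα' ⟨_, hlt⟩, range_bcAlpha, LinearMap.range_eq_top.mpr 𝒟.cokerLast]
    refine eq_top_iff.mpr fun x _ => ?_
    refine (hgB ⟨_, hlt⟩).inductionOn x (fun x => x ∈ _) (zero_mem _)
      (fun m => Submodule.subset_span ⟨m, trivial, rfl⟩) (fun c m hm => Submodule.smul_mem _ c hm)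
      fun _ _ => add_mem
  haveI := 𝒟.fpSA
  let isoN : N' ≃ₗ[S'] MI 𝒟 R' 0 :=
    (hf.equiv.symm.trans (TensorProduct.AlgebraTensorModule.congr (LinearEquiv.refl S' S') 𝒟.isoN)).trans hgS.equiv
  let 𝒟' : FlatCA.CompleteDevissage R' S' N' p' :=
    { n := 𝒟.n
      pos := 𝒟.pos
      A := AI 𝒟 R'
      B := BI 𝒟 R'
      M := MI 𝒟 R'
      r := 𝒟.r
      tRBA := tRBA
      tRSA := tRSA
      tRBA' := tRBA'
      tBAM := tBAM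
      tRBM := tRBM
      tSAM := tSAM
      tB'AM := tB'AM
      hp := hprime
      α := α'
      surjSA := surjective_of_isPushout 𝒟.surjSA
      fpSA := finitePresentation_of_isPushout (S := S) (C := 𝒟.A 0)
      surjBA' := fun i hi => by
        haveI := poBA' ⟨i, Nat.lt_of_succ_lt hi⟩ hi
        exact surjective_of_isPushout (S := 𝒟.B (Fin.val ⟨i, Nat.lt_of_succ_lt hi⟩)) (𝒟.surjBA' i hi)
      fpBA' := fun i hi => by
        haveI := poBA' ⟨i, Nat.lt_of_succ_lt hi⟩ hi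
        haveI := 𝒟.fpBA' i hi
        exact finitePresentation_of_isPushout (S := 𝒟.B (Fin.val ⟨i, Nat.lt_of_succ_lt hi⟩)) (C := 𝒟.A (i + 1))
      finiteBA := fun i hi => by
        haveI := poBA ⟨i, hi⟩
        haveI := 𝒟.finiteBA i hi
        exact finite_of_isPushout (S := 𝒟.B (Fin.val ⟨i, hi⟩)) (C := 𝒟.A i)
      smooth := fun i hi => hsm ⟨i, hi⟩
      geomIrred := fun i hi => hirr ⟨i, hi⟩
      finiteM := fun i hi => by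
        haveI := 𝒟.finiteM i hi
        infer_instance
      isoN := isoN
      isoCoker := fun i hi => (hcoker ⟨i, Nat.lt_of_succ_lt hi⟩ hi).some
      fibreIso := fun i hi => hbij ⟨i, hi⟩
      cokerLast := hlast }
  refine ⟨𝒟', fun i => inferInstanceAs (Algebra (𝒟.A i) (AI 𝒟 R' i)),
    fun i => inferInstanceAs (Algebra R (AI 𝒟 R' i)), fun i => inferInstanceAs (IsScalarTower R R' (AI 𝒟 R' i)),
    fun i => inferInstanceAs (IsScalarTower R (𝒟.A i) (AI 𝒟 R' i)), aB,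
    fun i => inferInstanceAs (Algebra R (BI 𝒟 R' i)), fun i => inferInstanceAs (IsScalarTower R R' (BI 𝒟 R' i)),
    t4, bA, t5, t6, bA', t7, sA, t8, fun i => inferInstanceAs (Module (𝒟.A i) (MI 𝒟 R' i)),
    fun i => inferInstanceAs (IsScalarTower (𝒟.A i) (AI 𝒟 R' i) (MI 𝒟 R' i)), fun i => g i,
    rfl, rfl, t0, fun x => ?_, fun i _ => t7' i, fun i => ⟨poA i, poB i, hg i, ?_⟩⟩
  · show hgS.equiv (TensorProduct.AlgebraTensorModule.congr (LinearEquiv.refl S' S') 𝒟.isoN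
      (hf.equiv.symm (f x))) = g 0 (𝒟.isoN x)
    rw [hf.equiv_symm_apply, TensorProduct.AlgebraTensorModule.congr_tmul, IsBaseChange.equiv_tmul,
      LinearEquiv.refl_apply, one_smul]
    rfl
  · show LinearMap.range (α' i) = _
    rw [hα' i, range_bcAlpha]
    rfl

end Groth.Agent.DevissBCHx
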