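import Groth.Agent.DevissBCHx.Points

/-!
# Base change of a complete dévissage at a point
-/

set_option linter.style.haveILetI false
set_option backward.isDefEq.respectTransparency false
set_option maxHeartbeats 4000000

universe u

open TensorProduct

namespace Groth.Agent.DevissBCHx

section

variable {R : Type u} [CommRing R] {R' : Type u} [CommRing R'] [Algebra R R'] (p : Ideal R) [p.IsPrime]
  (p' : Ideal R') [p'.IsPrime] (hp : p'.LiesOver p)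
  (hκ : Function.Bijective (Ideal.ResidueField.mapₐ p p' (Algebra.ofId R R') hp.over))
  (S : Type u) [CommRing S] [Algebra R S]
  (S' : Type u) [CommRing S'] [Algebra R' S'] [Algebra R S'] [Algebra S S'] [IsScalarTower R R' S']
  [IsScalarTower R S S'] [Algebra.IsPushout R R' S S']

include hκ in
/-- With trivial residue field extension every point of the fibre lifts. -/
theorem exists_liesOver (q : Ideal S) [q.IsPrime] (hq : q.LiesOver p) :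
    ∃ q' : Ideal S', q'.IsPrime ∧ q'.LiesOver q ∧ q'.LiesOver p' := by
  obtain ⟨E, hE⟩ := exists_fiberIso p p' hp hκ S S'
  obtain ⟨hP, hPq⟩ := exists_prime_fiber p q hq
  haveI := hP
  let P' : Ideal (p'.Fiber S') := (FlatCA.fiberIdeal p q).map E
  haveI : P'.IsPrime := Ideal.map_isPrime_of_equiv E
  refine ⟨P'.comap (Algebra.TensorProduct.includeRight (R := R') (A := p'.ResidueField) (B := S')).toRingHom,
    Ideal.IsPrime.comap _, ⟨?_⟩, ⟨?_⟩⟩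
  · ext s
    rw [Ideal.under_def, Ideal.mem_comap, Ideal.mem_comap]
    show _ ↔ (1 : p'.ResidueField) ⊗ₜ[R'] algebraMap S S' s ∈ (FlatCA.fiberIdeal p q).map E
    rw [← hE, Ideal.apply_mem_of_equiv_iff (f := E)]
    conv_lhs => rw [← hPq]
    rfl
  · rw [Ideal.under_def, Ideal.comap_comap]
    exact (Ideal.over_def P' p').trans (by rw [Ideal.under_def]; congr 1; exact
      ((Algebra.TensorProduct.includeRight (R := R') (A := p'.ResidueField) (B := S')).comp_algebraMap).symm)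

end

theorem exists_completeDevissageAt_baseChange
    (R S : Type u) [CommRing R] [CommRing S] [Algebra R S]
    (N : Type u) [AddCommGroup N] [Module S N]
    (p : Ideal R) [p.IsPrime] (q : Ideal S) [q.IsPrime] (𝒟 : FlatCA.CompleteDevissage R S N p)
    (𝒜 : FlatCA.CompleteDevissageAt R S N p q 𝒟)
    (R' : Type u) [CommRing R'] [Algebra R R'] (p' : Ideal R') [p'.IsPrime] [hp' : p'.LiesOver p]
    (hκ : Function.Bijective (Ideal.ResidueField.mapₐ p p' (Algebra.ofId R R') hp'.over))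
    (S' : Type u) [CommRing S'] [Algebra R' S'] [Algebra R S'] [Algebra S S'] [IsScalarTower R R' S']
    [IsScalarTower R S S'] [Algebra.IsPushout R R' S S']
    (N' : Type u) [AddCommGroup N'] [Module S' N'] [Module S N'] [IsScalarTower S S' N']
    (q' : Ideal S') [q'.IsPrime] [q'.LiesOver q] [q'.LiesOver p']
    (𝒟' : FlatCA.CompleteDevissage R' S' N' p') (hn : 𝒟'.n = 𝒟.n)
    (htail : ∀ i, 𝒟.n ≤ i → ∃ (Q : Ideal (𝒟'.B i)) (P : Ideal (𝒟'.A i)),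
      Q.IsPrime ∧ P.IsPrime ∧ Q.LiesOver p' ∧ P.LiesOver Q)
    [aA : ∀ i : Fin 𝒟.n, Algebra (𝒟.A i) (𝒟'.A i)] [rA : ∀ i : Fin 𝒟.n, Algebra R (𝒟'.A i)]
      [∀ i : Fin 𝒟.n, IsScalarTower R (R') (𝒟'.A i)] [∀ i : Fin 𝒟.n, IsScalarTower R (𝒟.A i) (𝒟'.A i)]
      [aB : ∀ i : Fin 𝒟.n, Algebra (𝒟.B i) (𝒟'.B i)] [rB : ∀ i : Fin 𝒟.n, Algebra R (𝒟'.B i)]
      [∀ i : Fin 𝒟.n, IsScalarTower R (R') (𝒟'.B i)] [∀ i : Fin 𝒟.n, IsScalarTower R (𝒟.B i) (𝒟'.B i)]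
      [bA : ∀ i : Fin 𝒟.n, Algebra (𝒟.B i) (𝒟'.A i)] [∀ i : Fin 𝒟.n, IsScalarTower (𝒟.B i) (𝒟.A i) (𝒟'.A i)]
      [∀ i : Fin 𝒟.n, IsScalarTower (𝒟.B i) (𝒟'.B i) (𝒟'.A i)]
      [bA' : ∀ i : Fin 𝒟.n, Algebra (𝒟.B i) (𝒟'.A (i + 1))]
      [∀ i : Fin 𝒟.n, IsScalarTower (𝒟.B i) (𝒟'.B i) (𝒟'.A (i + 1))]
      [sA : Algebra S (𝒟'.A 0)] [IsScalarTower S (S') (𝒟'.A 0)]
      [mA : ∀ i : Fin 𝒟.n, Module (𝒟.A i) (𝒟'.M i)] [∀ i : Fin 𝒟.n, IsScalarTower (𝒟.A i) (𝒟'.A i) (𝒟'.M i)]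
      (gM : ∀ i : Fin 𝒟.n, 𝒟.M i →ₗ[𝒟.A i] 𝒟'.M i)
    (hS0 : letI := aA ⟨0, 𝒟.pos⟩; IsScalarTower S (𝒟.A 0) (𝒟'.A 0))
    (hstep : ∀ (i : Fin 𝒟.n) (h : (i : ℕ) + 1 < 𝒟.n),
        letI := aA ⟨i + 1, h⟩; IsScalarTower (𝒟.B i) (𝒟.A (i + 1)) (𝒟'.A (i + 1)))
    (hpo : ∀ i : Fin 𝒟.n,
        Algebra.IsPushout R R' (𝒟.A i) (𝒟'.A i) ∧ Algebra.IsPushout R R' (𝒟.B i) (𝒟'.B i) ∧
        IsBaseChange (𝒟'.A i) (gM i)) :
    ∃ 𝒜' : FlatCA.CompleteDevissageAt R' S' N' p' q' 𝒟', 𝒜'.d = 𝒜.d ∧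
      ∀ i : Fin 𝒟.n, (𝒜'.qB i).LiesOver (𝒜.qB i) ∧ (𝒜'.qA i).LiesOver (𝒜.qA i) := by
  haveI poA : ∀ i : Fin 𝒟.n, Algebra.IsPushout R R' (𝒟.A i) (𝒟'.A i) := fun i => (hpo i).1
  haveI poB : ∀ i : Fin 𝒟.n, Algebra.IsPushout R R' (𝒟.B i) (𝒟'.B i) := fun i => (hpo i).2.1
  haveI := 𝒜.hqA
  haveI := 𝒜.hqB
  haveI := 𝒜.overA
  haveI := 𝒜.overB
  haveI : ∀ i, (𝒜.qA i).LiesOver p := fun i => Ideal.LiesOver.trans (𝒜.qA i) (𝒜.qB i) p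
  have key : ∀ i : ℕ, ∃ (Q : Ideal (𝒟'.B i)) (P : Ideal (𝒟'.A i)),
      Q.IsPrime ∧ P.IsPrime ∧ Q.LiesOver p' ∧ P.LiesOver Q ∧
      ∀ hi : i < 𝒟.n, (letI := aB ⟨i, hi⟩; Q.LiesOver (𝒜.qB i)) ∧
        (letI := aA ⟨i, hi⟩; P.LiesOver (𝒜.qA i)) := by
    intro i
    rcases Nat.lt_or_ge i 𝒟.n with hi | hi
    · obtain ⟨j, rfl⟩ : ∃ j : Fin 𝒟.n, (j : ℕ) = i := ⟨⟨i, hi⟩, rfl⟩
      obtain ⟨P, hP, hPq, hPp⟩ := exists_liesOver p p' hp' hκ (𝒟.A j) (𝒟'.A j) (𝒜.qA j) inferInstance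
      obtain ⟨Q, hQ, hQq, hQp⟩ := exists_liesOver p p' hp' hκ (𝒟.B j) (𝒟'.B j) (𝒜.qB j) inferInstance
      haveI := hP
      haveI := hQ
      refine ⟨Q, P, hQ, hP, hQp, ⟨?_⟩, fun _ => ⟨hQq, hPq⟩⟩
      refine eq_of_liesOver p p' hp' hκ (𝒟.B j) (𝒟'.B j) (𝒜.qB j) Q (P.under (𝒟'.B j)) hQq hQp ⟨?_⟩ ⟨?_⟩
      · rw [Ideal.over_def (𝒜.qA j) (𝒜.qB j), hPq.over]
        simp only [Ideal.under_def, Ideal.comap_comap, ← IsScalarTower.algebraMap_eq]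
      · exact hPp.over.trans (by simp only [Ideal.under_def, Ideal.comap_comap, ← IsScalarTower.algebraMap_eq])
    · obtain ⟨Q, P, h1, h2, h3, h4⟩ := htail i hi
      exact ⟨Q, P, h1, h2, h3, h4, fun h => absurd h (Nat.not_lt.mpr hi)⟩
  choose qB qA hB hA hBp hAB hover using key
  have hBq : ∀ i : Fin 𝒟.n, (qB i).LiesOver (𝒜.qB i) := fun i => (hover i i.2).1
  have hAq : ∀ i : Fin 𝒟.n, (qA i).LiesOver (𝒜.qA i) := fun i => (hover i i.2).2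
  haveI : ∀ i, (qA i).LiesOver p' := fun i => by
    haveI := hB i
    exact Ideal.LiesOver.trans (qA i) (qB i) p'
  refine ⟨{ qB := qB, qA := qA, hqB := hB, hqA := hA, overB := hBp, overA := hAB,
            pureTrans := fun i hi => ?_, uniq := fun i hi => ?_, q0 := ?_, qStep := fun i hi => ?_,
            d := 𝒜.d, relDim := fun i hi => ?_, locDim := fun i hi => ?_ }, rfl, fun i => ⟨hBq i, hAq i⟩⟩
  · rw [hn] at hi
    obtain ⟨j, rfl⟩ : ∃ j : Fin 𝒟.n, (j : ℕ) = i := ⟨⟨i, hi⟩, rfl⟩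
    haveI := hBq j
    exact purelyTranscendental_baseChange p p' hp' hκ (𝒟.B j) (𝒟'.B j) (𝒜.qB j) (qB j) (𝒜.pureTrans j hi)
  · rw [hn] at hi
    obtain ⟨j, rfl⟩ : ∃ j : Fin 𝒟.n, (j : ℕ) = i := ⟨⟨i, hi⟩, rfl⟩
    intro W _ hW
    haveI := hW
    haveI := hBq j
    haveI : W.LiesOver p' := Ideal.LiesOver.trans W (qB j) p'
    have hz : W.under (𝒟.A j) = 𝒜.qA j := by
      refine 𝒜.uniq j hi (W.under (𝒟.A j)) ⟨?_⟩
      rw [Ideal.over_def (qB j) (𝒜.qB j), Ideal.over_def W (qB j)]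
      simp only [Ideal.under_def, Ideal.comap_comap, ← IsScalarTower.algebraMap_eq]
    exact eq_of_liesOver p p' hp' hκ (𝒟.A j) (𝒟'.A j) (𝒜.qA j) W (qA j) ⟨hz.symm⟩ inferInstance (hAq j)
      inferInstance
  · letI := aA ⟨0, 𝒟.pos⟩
    haveI := hS0
    haveI : (qA 0).LiesOver (𝒜.qA 0) := hAq ⟨0, 𝒟.pos⟩
    refine (eq_of_liesOver p p' hp' hκ S S' q q' ((qA 0).comap (algebraMap S' (𝒟'.A 0))) inferInstance
      inferInstance ⟨?_⟩ ⟨?_⟩).symm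
    · conv_lhs => rw [← 𝒜.q0, Ideal.over_def (qA 0) (𝒜.qA 0)]
      simp only [Ideal.under_def, Ideal.comap_comap, ← IsScalarTower.algebraMap_eq]
    · exact (Ideal.over_def (qA 0) p').trans
        (by simp only [Ideal.under_def, Ideal.comap_comap, ← IsScalarTower.algebraMap_eq])
  · rw [hn] at hi
    obtain ⟨j, rfl⟩ : ∃ j : Fin 𝒟.n, (j : ℕ) = i := ⟨⟨i, Nat.lt_of_succ_lt hi⟩, rfl⟩
    letI := aA ⟨j + 1, hi⟩
    haveI := hstep j hi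
    haveI : (qA ((j : ℕ) + 1)).LiesOver (𝒜.qA ((j : ℕ) + 1)) := hAq ⟨j + 1, hi⟩
    refine (eq_of_liesOver p p' hp' hκ (𝒟.B j) (𝒟'.B j) (𝒜.qB j) (qB j)
      ((qA ((j : ℕ) + 1)).comap (algebraMap (𝒟'.B j) (𝒟'.A ((j : ℕ) + 1)))) (hBq j) inferInstance ⟨?_⟩ ⟨?_⟩).symm
    · rw [← 𝒜.qStep j hi, Ideal.over_def (qA ((j : ℕ) + 1)) (𝒜.qA ((j : ℕ) + 1))]
      simp only [Ideal.under_def, Ideal.comap_comap, ← IsScalarTower.algebraMap_eq]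
    · exact (Ideal.over_def (qA ((j : ℕ) + 1)) p').trans
        (by simp only [Ideal.under_def, Ideal.comap_comap, ← IsScalarTower.algebraMap_eq])
  · rw [hn] at hi
    obtain ⟨j, rfl⟩ : ∃ j : Fin 𝒟.n, (j : ℕ) = i := ⟨⟨i, hi⟩, rfl⟩
    exact smoothRelDim_baseChange (R := R) (D := 𝒟.B j) (𝒜.relDim j hi)
  · rw [hn] at hi
    obtain ⟨j, rfl⟩ : ∃ j : Fin 𝒟.n, (j : ℕ) = i := ⟨⟨i, hi⟩, rfl⟩
    letI : Module (𝒟.B j) (𝒟'.M j) := Module.compHom _ (algebraMap (𝒟.B j) (𝒟.A j))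
    haveI : IsScalarTower (𝒟.B j) (𝒟.A j) (𝒟'.M j) := IsScalarTower.of_algebraMap_smul fun _ _ => rfl
    haveI : IsScalarTower (𝒟.B j) (𝒟'.B j) (𝒟'.M j) := IsScalarTower.of_algebraMap_smul fun b x => by
      rw [← algebraMap_smul (𝒟'.A j) (algebraMap (𝒟.B j) (𝒟'.B j) b) x, ← IsScalarTower.algebraMap_apply,
        IsScalarTower.algebraMap_apply (𝒟.B j) (𝒟.A j) (𝒟'.A j), algebraMap_smul]
      rfl
    haveI : Algebra.IsPushout (𝒟.B j) (𝒟.A j) (𝒟'.B j) (𝒟'.A j) := isPushout_cube (R := R) (R' := R')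
    haveI := 𝒟.finiteM j hi
    haveI := 𝒟.finiteBA j hi
    haveI : Module.Finite (𝒟.B j) (𝒟.M j) := Module.Finite.trans (𝒟.A j) (𝒟.M j)
    haveI := hBq j
    have hgB : IsBaseChange (𝒟'.B j) ((gM j).restrictScalars (𝒟.B j)) :=
      FlatPureHx.isBaseChange_of_isPushout (A := 𝒟.B j) (B := 𝒟.A j) (A' := 𝒟'.B j) (B' := 𝒟'.A j) (hpo j).2.2
    exact exists_localDim_baseChange p p' hp' hκ (𝒟.B j) (𝒟'.B j) (𝒟.M j) (𝒟'.M j) hgB (𝒜.qB j) (qB j)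
      (𝒜.locDim j hi)

end Groth.Agent.DevissBCHx
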