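import Groth.Agent.DevissBCHx.Generic

/-!
# The rings and maps of the base change of a complete dévissage

At the steps of the dévissage the rings are the base changes; beyond them the structure asks nothing of
the rings carrying modules and only an algebra with prime fibre of the smooth ones, for which we take the
zero ring and the base.
-/

set_option linter.style.haveILetI false
set_option backward.isDefEq.respectTransparency false
set_option maxHeartbeats 1000000

universe u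

open TensorProduct

namespace Groth.Agent.DevissBCHx

attribute [local instance] Algebra.TensorProduct.rightAlgebra

variable {R S : Type u} [CommRing R] [CommRing S] [Algebra R S]
  {N : Type u} [AddCommGroup N] [Module S N] {p : Ideal R} [p.IsPrime]
  (𝒟 : FlatCA.CompleteDevissage R S N p) (R' : Type u) [CommRing R'] [Algebra R R']

/-- The rings carrying the modules. -/
abbrev AI (i : ℕ) : Type u := PLift (i < 𝒟.n) → R' ⊗[R] 𝒟.A i

/-- The smooth algebras. -/
abbrev BI (i : ℕ) : Type u := (PLift (i < 𝒟.n) → R' ⊗[R] 𝒟.B i) × (PLift (¬ i < 𝒟.n) → R')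

/-- The modules. -/
abbrev MI (i : ℕ) : Type u := AI 𝒟 R' i ⊗[𝒟.A i] 𝒟.M i

/-- The map from the smooth algebra to the ring carrying the module. -/
noncomputable def bToA (i : ℕ) : BI 𝒟 R' i →ₐ[R'] AI 𝒟 R' i where
  toRingHom := (RingHom.fst _ _ |> fun π => (Pi.ringHom fun h : PLift (i < 𝒟.n) =>
    (Algebra.TensorProduct.map (AlgHom.id R' R') (IsScalarTower.toAlgHom R (𝒟.B i) (𝒟.A i))).toRingHom.comp
      (Pi.evalRingHom _ h)).comp π)
  commutes' r := funext fun h =>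
    (Algebra.TensorProduct.map (AlgHom.id R' R') (IsScalarTower.toAlgHom R (𝒟.B i) (𝒟.A i))).commutes r

/-- The map from the smooth algebra to the next ring carrying a module. -/
noncomputable def bToA' (i : ℕ) : BI 𝒟 R' i →ₐ[R'] AI 𝒟 R' (i + 1) where
  toRingHom := (RingHom.fst _ _ |> fun π => (Pi.ringHom fun h : PLift (i + 1 < 𝒟.n) =>
    (Algebra.TensorProduct.map (AlgHom.id R' R') (IsScalarTower.toAlgHom R (𝒟.B i) (𝒟.A (i + 1)))).toRingHom.comp
      (Pi.evalRingHom _ ⟨Nat.lt_of_succ_lt h.down⟩)).comp π)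
  commutes' r := funext fun h =>
    (Algebra.TensorProduct.map (AlgHom.id R' R') (IsScalarTower.toAlgHom R (𝒟.B i) (𝒟.A (i + 1)))).commutes r

/-- The map from a smooth algebra of the dévissage to its base change. -/
noncomputable def bInc (i : Fin 𝒟.n) : 𝒟.B i →+* BI 𝒟 R' i :=
  RingHom.prod (Pi.ringHom fun _ => (Algebra.TensorProduct.includeRight (R := R) (A := R') (B := 𝒟.B i)).toRingHom)
    (Pi.ringHom fun h => absurd i.2 h.down)

/-- The base change of `B i`. -/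
noncomputable def bEquiv (i : Fin 𝒟.n) : R' ⊗[R] 𝒟.B i ≃ₐ[R'] BI 𝒟 R' i :=
  haveI : IsEmpty (PLift (¬ (i : ℕ) < 𝒟.n)) := ⟨fun h => h.down i.2⟩
  AlgEquiv.ofBijective
    { toFun := fun x => (fun _ => x, isEmptyElim)
      map_one' := Prod.ext rfl (funext isEmptyElim)
      map_mul' := fun _ _ => Prod.ext rfl (funext isEmptyElim)
      map_zero' := Prod.ext rfl (funext isEmptyElim)
      map_add' := fun _ _ => Prod.ext rfl (funext isEmptyElim)
      commutes' := fun _ => Prod.ext rfl (funext isEmptyElim) }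
    ⟨fun a b h => congrFun (congrArg Prod.fst h) ⟨i.2⟩, fun z => ⟨z.1 ⟨i.2⟩, Prod.ext rfl (funext isEmptyElim)⟩⟩

/-- The base change of `A i`. -/
noncomputable def aEquiv (i : ℕ) (hi : i < 𝒟.n) : R' ⊗[R] 𝒟.A i ≃ₐ[R'] AI 𝒟 R' i :=
  AlgEquiv.ofBijective
    { toFun := fun x _ => x
      map_one' := rfl
      map_mul' := fun _ _ => rfl
      map_zero' := rfl
      map_add' := fun _ _ => rfl
      commutes' := fun _ => rfl }
    ⟨fun a b h => congrFun h ⟨hi⟩, fun z => ⟨z ⟨hi⟩, rfl⟩⟩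

theorem isPushout_A (i : ℕ) (hi : i < 𝒟.n) : Algebra.IsPushout R R' (𝒟.A i) (AI 𝒟 R' i) :=
  Algebra.IsPushout.of_equiv (aEquiv 𝒟 R' i hi) rfl

theorem bToA_bInc (i : Fin 𝒟.n) (b : 𝒟.B i) :
    bToA 𝒟 R' i (bInc 𝒟 R' i b) = algebraMap (𝒟.A i) (AI 𝒟 R' i) (algebraMap (𝒟.B i) (𝒟.A i) b) :=
  funext fun _ => Algebra.TensorProduct.map_tmul _ _ _ _

theorem bToA'_bInc (i : Fin 𝒟.n) (b : 𝒟.B i) :
    bToA' 𝒟 R' i (bInc 𝒟 R' i b) =
      algebraMap (𝒟.A (i + 1)) (AI 𝒟 R' (i + 1)) (algebraMap (𝒟.B i) (𝒟.A (i + 1)) b) :=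
  funext fun _ => Algebra.TensorProduct.map_tmul _ _ _ _

theorem algebraMap_bInc (i : Fin 𝒟.n) (r : R) :
    bInc 𝒟 R' i (algebraMap R (𝒟.B i) r) = algebraMap R (BI 𝒟 R' i) r := by
  haveI : IsEmpty (PLift (¬ (i : ℕ) < 𝒟.n)) := ⟨fun h => h.down i.2⟩
  exact Prod.ext (funext fun _ =>
    (Algebra.TensorProduct.includeRight (R := R) (A := R') (B := 𝒟.B i)).commutes r) (funext isEmptyElim)

theorem isPushout_B (i : Fin 𝒟.n) :
    letI := (bInc 𝒟 R' i).toAlgebra
    letI : IsScalarTower R (𝒟.B i) (BI 𝒟 R' i) :=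
      IsScalarTower.of_algebraMap_eq fun r => (algebraMap_bInc 𝒟 R' i r).symm
    Algebra.IsPushout R R' (𝒟.B i) (BI 𝒟 R' i) := by
  letI := (bInc 𝒟 R' i).toAlgebra
  haveI : IsScalarTower R (𝒟.B i) (BI 𝒟 R' i) :=
    IsScalarTower.of_algebraMap_eq fun r => (algebraMap_bInc 𝒟 R' i r).symm
  haveI : IsEmpty (PLift (¬ (i : ℕ) < 𝒟.n)) := ⟨fun h => h.down i.2⟩
  exact Algebra.IsPushout.of_equiv (bEquiv 𝒟 R' i) (RingHom.ext fun b => Prod.ext rfl (funext isEmptyElim))

/-- Beyond the steps the smooth algebra is the base. -/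
theorem isPrime_map_tail (i : ℕ) (hi : ¬ i < 𝒟.n) (p' : Ideal R') [p'.IsPrime] :
    (p'.map (algebraMap R' (BI 𝒟 R' i))).IsPrime := by
  haveI : IsEmpty (PLift (i < 𝒟.n)) := ⟨fun h => hi h.down⟩
  let e : R' ≃+* BI 𝒟 R' i := RingEquiv.ofBijective (algebraMap R' (BI 𝒟 R' i))
    ⟨fun a b h => congrFun (congrArg Prod.snd h) ⟨hi⟩, fun z => ⟨z.2 ⟨hi⟩, Prod.ext (funext isEmptyElim) rfl⟩⟩
  exact Ideal.map_isPrime_of_equiv (I := p') e

end Groth.Agent.DevissBCHx
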