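import Groth.Agent.DevissBCHx.Shrink

/-!
# Principal opens of smooth algebras and of finite algebras
-/

set_option linter.style.haveILetI false
set_option backward.isDefEq.respectTransparency false
set_option maxHeartbeats 1000000

universe u

open TensorProduct CategoryTheory AlgebraicGeometry

namespace Groth.Agent.DevissBCHx

/-- A finite map with a unique prime over `y` lets one shrink below. -/
theorem exists_dvd_pow_of_unique {B A : Type u} [CommRing B] [CommRing A] [Algebra B A] [Algebra.IsIntegral B A]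
    (y : Ideal B) [y.IsPrime] (z : Ideal A) (huniq : ∀ (Q : Ideal A) [Q.IsPrime], Q.LiesOver y → Q = z)
    (x : A) (hx : x ∉ z) : ∃ w ∉ y, ∃ k : ℕ, x ∣ algebraMap B A w ^ k := by
  by_contra! h
  obtain ⟨Q, hQI, hQ, hQy⟩ := Ideal.exists_ideal_over_prime_of_isIntegral y (Ideal.span {x}).radical (fun w hw => by
    by_contra hwy
    obtain ⟨k, hk⟩ := hw
    exact h w hwy k (Ideal.mem_span_singleton.mp hk))
  exact hx ((huniq Q ⟨hQy.symm⟩) ▸ hQI (Ideal.le_radical (Ideal.mem_span_singleton_self x)))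

/-- Localisations at elements dividing powers of each other. -/
theorem away_of_dvd_pow {A B : Type u} [CommRing A] [CommRing B] [Algebra A B] (a b : A) [IsLocalization.Away a B]
    {k l : ℕ} (hab : a ∣ b ^ k) (hba : b ∣ a ^ l) : IsLocalization.Away b B := by
  let M := Submonoid.powers a ⊔ Submonoid.powers b
  have hM : ∀ n ∈ M, ∃ i j : ℕ, n = a ^ i * b ^ j := fun n hn => by
    obtain ⟨_, ⟨i, rfl⟩, _, ⟨j, rfl⟩, rfl⟩ := Submonoid.mem_sup.1 hn
    exact ⟨i, j, rfl⟩
  haveI : IsLocalization M B := (IsLocalization.iff_of_le_of_exists_dvd (Submonoid.powers a) M le_sup_left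
    fun n hn => by
      obtain ⟨i, j, rfl⟩ := hM n hn
      refine ⟨a ^ (i + l * j), ⟨_, rfl⟩, ?_⟩
      rw [pow_add, pow_mul]
      exact mul_dvd_mul_left _ (pow_dvd_pow_of_dvd hba j)).1 ‹_›
  exact (IsLocalization.iff_of_le_of_exists_dvd (Submonoid.powers b) M le_sup_right fun n hn => by
    obtain ⟨i, j, rfl⟩ := hM n hn
    refine ⟨b ^ (k * i + j), ⟨_, rfl⟩, ?_⟩
    rw [pow_add, pow_mul]
    exact mul_dvd_mul_right (pow_dvd_pow_of_dvd hab i) _).2 this

variable {R B : Type u} [CommRing R] [CommRing B] [Algebra R B]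

/-- The image of a principal open of a smooth algebra is a neighbourhood of each of its points. -/
theorem exists_image_nhd [Algebra.Smooth R B] (b : B) (Q : Ideal B) [Q.IsPrime] (hb : b ∉ Q) :
    ∃ g ∉ Q.comap (algebraMap R B), ∀ t : PrimeSpectrum R, g ∉ t.asIdeal →
      ∃ P : PrimeSpectrum B, b ∉ P.asIdeal ∧ P.asIdeal.comap (algebraMap R B) = t.asIdeal := by
  have ho : IsOpen (PrimeSpectrum.comap (algebraMap R B) '' (PrimeSpectrum.basicOpen b : Set (PrimeSpectrum B))) :=
    PrimeSpectrum.isOpenMap_comap_of_hasGoingDown_of_finitePresentation _ (PrimeSpectrum.basicOpen b).isOpen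
  obtain ⟨_, ⟨g, rfl⟩, hgQ, hg⟩ := PrimeSpectrum.isTopologicalBasis_basic_opens.exists_subset_of_mem_open
    (show PrimeSpectrum.comap (algebraMap R B) ⟨Q, inferInstance⟩ ∈ PrimeSpectrum.comap (algebraMap R B) ''
      (PrimeSpectrum.basicOpen b : Set (PrimeSpectrum B)) from ⟨⟨Q, inferInstance⟩, hb, rfl⟩) ho
  refine ⟨g, hgQ, fun t ht => ?_⟩
  obtain ⟨P, hP, hPt⟩ := hg (show t ∈ PrimeSpectrum.basicOpen g from ht)
  exact ⟨P, hP, congrArg PrimeSpectrum.asIdeal hPt⟩

variable {R' B' : Type u} [CommRing R'] [CommRing B'] [Algebra R R'] (g : R) [IsLocalization.Away g R']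
  [Algebra R' B'] [Algebra R B'] [IsScalarTower R R' B'] [Algebra B B'] [IsScalarTower R B B']
  (b : B) [IsLocalization.Away b B']

include g in
theorem isPushout_self : Algebra.IsPushout R R' B' B' := by
  haveI : IsLocalization (Algebra.algebraMapSubmonoid B' (Submonoid.powers g)) B' := by
    refine IsLocalization.self ?_
    rintro _ ⟨_, ⟨k, rfl⟩, rfl⟩
    rw [map_pow, IsScalarTower.algebraMap_apply R R' B']
    exact ((IsLocalization.Away.algebraMap_isUnit g).map _).pow k
  exact (Algebra.isPushout_of_isLocalization (Submonoid.powers g) R' B' B').symm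

include g b in
theorem smooth_away [Algebra.Smooth R B] : Algebra.Smooth R' B' := by
  haveI : Algebra.Smooth B B' := Algebra.Smooth.of_isLocalization_Away b
  haveI : Algebra.Smooth R B' := Algebra.Smooth.comp R B B'
  haveI := isPushout_self (R := R) (R' := R') (B' := B') g
  exact Algebra.Smooth.of_equiv (Algebra.IsPushout.equiv R R' B' B')

include g b in
theorem smoothRelDim_away {n : ℕ} (h : FlatCA.SmoothRelDim n R B) : FlatCA.SmoothRelDim n R' B' := by
  haveI : IsOpenImmersion (Spec.map (CommRingCat.ofHom (algebraMap B B'))) :=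
    IsOpenImmersion.of_isLocalization b
  haveI : SmoothOfRelativeDimension n (Spec.map (CommRingCat.ofHom (algebraMap R B))) := h
  have hc : SmoothOfRelativeDimension (0 + n) (Spec.map (CommRingCat.ofHom (algebraMap B B')) ≫
      Spec.map (CommRingCat.ofHom (algebraMap R B))) := inferInstance
  rw [zero_add, ← Spec.map_comp, ← CommRingCat.ofHom_comp, ← IsScalarTower.algebraMap_eq] at hc
  haveI := isPushout_self (R := R) (R' := R') (B' := B') g
  exact smoothRelDim_baseChange (R := R) (D := B') hc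

include g b in
theorem geomIrredFibres_away (h : FlatCA.GeomIrredFibres R B)
    (himg : ∀ t : PrimeSpectrum R, g ∉ t.asIdeal →
      ∃ P : PrimeSpectrum B, b ∉ P.asIdeal ∧ P.asIdeal.comap (algebraMap R B) = t.asIdeal) :
    FlatCA.GeomIrredFibres R' B' := by
  rw [RG11.geomIrredFibres_iff] at h ⊢
  intro K _ _
  letI := Algebra.compHom K (algebraMap R R')
  haveI : IsScalarTower R R' K := IsScalarTower.of_algebraMap_eq fun _ => rfl
  haveI := h K
  haveI := isPushout_self (R := R) (R' := R') (B' := B') g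
  let e : K ⊗[R] B' ≃ₐ[K] K ⊗[R'] B' :=
    (Algebra.TensorProduct.cancelBaseChange R R' K K B').symm.trans
      (Algebra.TensorProduct.congr AlgEquiv.refl (Algebra.IsPushout.equiv R R' B' B'))
  let j : K ⊗[R] B →ₐ[K] K ⊗[R] B' := Algebra.TensorProduct.map (AlgHom.id K K) (IsScalarTower.toAlgHom R B B')
  letI := j.toRingHom.toAlgebra
  haveI hloc : IsLocalization.Away ((1 : K) ⊗ₜ[R] b : K ⊗[R] B) (K ⊗[R] B') := by
    letI : Algebra B (K ⊗[R] B) := Algebra.TensorProduct.rightAlgebra
    letI : Algebra B (K ⊗[R] B') := ((j.toRingHom).comp (algebraMap B (K ⊗[R] B))).toAlgebra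
    haveI : IsScalarTower B (K ⊗[R] B) (K ⊗[R] B') := IsScalarTower.of_algebraMap_eq fun _ => rfl
    letI : Algebra B' (K ⊗[R] B') := Algebra.TensorProduct.rightAlgebra
    haveI : IsScalarTower B B' (K ⊗[R] B') := IsScalarTower.of_algebraMap_eq fun x => by
      show j ((1 : K) ⊗ₜ x) = (1 : K) ⊗ₜ algebraMap B B' x
      simp [j]
    haveI : IsScalarTower R B (K ⊗[R] B') := IsScalarTower.of_algebraMap_eq fun r => by
      rw [IsScalarTower.algebraMap_apply B B' (K ⊗[R] B'), ← IsScalarTower.algebraMap_apply R B B',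
        ← IsScalarTower.algebraMap_apply R B' (K ⊗[R] B')]
    haveI : IsScalarTower R (K ⊗[R] B) (K ⊗[R] B') := IsScalarTower.of_algebraMap_eq fun r =>
      ((j.restrictScalars R).commutes r).symm
    haveI : IsScalarTower K (K ⊗[R] B) (K ⊗[R] B') := IsScalarTower.of_algebraMap_eq fun r =>
      (j.commutes r).symm
    haveI : Algebra.IsPushout B B' (K ⊗[R] B) (K ⊗[R] B') := by
      haveI : Algebra.IsPushout R B K (K ⊗[R] B) := Algebra.IsPushout.symm inferInstance
      haveI : Algebra.IsPushout R B' K (K ⊗[R] B') := Algebra.IsPushout.symm inferInstance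
      exact (Algebra.IsPushout.comp_iff R B K (K ⊗[R] B)).mp inferInstance
    have := (Algebra.isLocalization_iff_isPushout (Submonoid.powers b) B' (T := K ⊗[R] B)
      (B := K ⊗[R] B')).mpr (Algebra.IsPushout.symm inferInstance)
    rwa [Algebra.algebraMapSubmonoid, Submonoid.map_powers] at this
  have hne : Nonempty (PrimeSpectrum (K ⊗[R] B')) := by
    haveI : (RingHom.ker (algebraMap R K)).IsPrime := RingHom.ker_isPrime _
    obtain ⟨P, hbP, hPt⟩ := himg ⟨RingHom.ker (algebraMap R K), inferInstance⟩ fun hg => by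
      have hu := ((IsLocalization.Away.algebraMap_isUnit (S := R') g).map (algebraMap R' K))
      rw [← IsScalarTower.algebraMap_apply] at hu
      exact not_isUnit_zero ((RingHom.mem_ker.mp hg) ▸ hu)
    haveI := P.isPrime
    obtain ⟨Q, hQ, -, hQP⟩ := RG11.exists_prime_tensor (R := R) (R' := K) (X := B) (⊥ : Ideal K) P.asIdeal
      (by rw [← RingHom.ker_eq_comap_bot, hPt])
    haveI := hQ
    have hd : Disjoint (Submonoid.powers ((1 : K) ⊗ₜ[R] b : K ⊗[R] B) : Set (K ⊗[R] B)) Q :=
      (Ideal.disjoint_powers_iff_notMem_of_isPrime _).2 fun hm => hbP (hQP ▸ hm)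
    exact ⟨⟨Q.map (algebraMap _ (K ⊗[R] B')), IsLocalization.isPrime_of_isPrime_disjoint _ _ _ hQ hd⟩⟩
  have hemb := PrimeSpectrum.localization_away_isOpenEmbedding (K ⊗[R] B') ((1 : K) ⊗ₜ[R] b : K ⊗[R] B)
  haveI : IrreducibleSpace (PrimeSpectrum (K ⊗[R] B')) := by
    haveI : PreirreducibleSpace (PrimeSpectrum (K ⊗[R] B')) := hemb.preirreducibleSpace
    exact { toNonempty := hne }
  let eh := PrimeSpectrum.homeomorphOfRingEquiv e.toRingEquiv
  haveI : PreirreducibleSpace (PrimeSpectrum (K ⊗[R'] B')) := eh.symm.isOpenEmbedding.preirreducibleSpace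
  exact { toNonempty := hne.map eh }

end Groth.Agent.DevissBCHx
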