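import Groth.Agent.RG11.ShrinkSmooth
import Groth.Agent.RG11.GoodStep
import Groth.Agent.RG11.LiftEtale
import Groth.Agent.RG11.CDAux
import Groth.Agent.DevissBCHx.ShrinkRing

/-!
# Shrinkings with geometrically irreducible fibres after an étale localisation of the base
-/

set_option linter.style.haveILetI false
set_option backward.isDefEq.respectTransparency false
set_option maxHeartbeats 2000000

universe u

open TensorProduct AlgebraicGeometry

namespace Groth.Agent.DevissBCHx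

/-- After an étale localisation of the base, a smooth algebra has an affine open with geometrically integral
fibres around a point with purely transcendental residue field. -/
theorem exists_shrink_base {R' D' : Type u} [CommRing R'] [CommRing D'] [Algebra R' D'] [Algebra.Smooth R' D']
    (p' : Ideal R') [p'.IsPrime] (y' : Ideal D') [y'.IsPrime] [hover : y'.LiesOver p']
    (hpure : FlatCA.PurelyTranscendental p' y') :
    ∃ (R₂ : Type u) (_ : CommRing R₂) (_ : Algebra R' R₂) (D₂₀ : Type u) (_ : CommRing D₂₀)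
      (_ : Algebra D' D₂₀) (_ : Algebra R₂ D₂₀) (_ : Algebra R' D₂₀) (_ : IsScalarTower R' R₂ D₂₀)
      (_ : IsScalarTower R' D' D₂₀) (p₂ : Ideal R₂) (_ : p₂.IsPrime) (y₀ : Ideal D₂₀) (_ : y₀.IsPrime),
      Algebra.Etale R' R₂ ∧ Algebra.Etale D' D₂₀ ∧ RG11.TrivExt p' p₂ ∧ RG11.TrivExt y' y₀ ∧
      y₀.comap (algebraMap R₂ D₂₀) = p₂ ∧ FlatCA.GeomIntegralFibres R₂ D₂₀ ∧
      IsOpenImmersion (Spec.map (CommRingCat.ofHom (Algebra.TensorProduct.lift (Algebra.ofId R₂ D₂₀)
        (IsScalarTower.toAlgHom R' D' D₂₀) fun _ _ => .all _ _).toRingHom)) := by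
  let L := y'.ResidueField
  letI : Algebra p'.ResidueField L :=
    (Ideal.ResidueField.mapₐ p' y' (Algebra.ofId R' D') hover.over).toRingHom.toAlgebra
  haveI : IsScalarTower R' p'.ResidueField L := IsScalarTower.of_algebraMap_eq fun r =>
    ((Ideal.ResidueField.mapₐ p' y' (Algebra.ofId R' D') hover.over).commutes r).symm
  obtain ⟨m, v, hv, hvgen⟩ := RG11.exists_pureTrans_basis p' y' hpure
  let χ : D' →ₐ[R'] L := IsScalarTower.toAlgHom R' D' L
  obtain ⟨R₂, _, _, θ₂, g₀, hetR₂, hg₀, hgi⟩ := RG11.exists_shrink_smooth p' L χ v hv hvgen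
  haveI := hetR₂
  let θL : R₂ →ₐ[R'] L := (IsScalarTower.toAlgHom R' p'.ResidueField L).comp θ₂
  let Λ := Algebra.TensorProduct.lift θL χ fun _ _ => .all _ _
  let p₂ := RingHom.ker θ₂.toRingHom
  haveI : p₂.IsPrime := RingHom.ker_isPrime _
  have hp₂ : RG11.TrivExt p' p₂ := RG11.TrivExt.of_point θ₂
  let X₂ := R₂ ⊗[R'] D'
  let y₂' : Ideal X₂ := RingHom.ker Λ.toRingHom
  haveI : y₂'.IsPrime := RingHom.ker_isPrime _
  have hy₂'p : y₂'.comap (algebraMap R₂ X₂) = p₂ := by
    show _ = RingHom.ker θ₂.toRingHom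
    rw [RingHom.comap_ker, ← RingHom.ker_comp_of_injective θ₂.toRingHom (algebraMap p'.ResidueField L).injective]
    congr 1
    refine RingHom.ext fun r => ?_
    show Λ (r ⊗ₜ[R'] (1 : D')) = θL r
    exact (Algebra.TensorProduct.lift_tmul _ _ _ _ _).trans (by rw [map_one, mul_one])
  have hy₂'y : y₂'.comap (RG11.incR R₂) = y' := by
    rw [RingHom.comap_ker]
    refine Eq.trans ?_ (Ideal.ker_algebraMap_residueField y')
    congr 1
    refine RingHom.ext fun d => ?_
    show Λ ((1 : R₂) ⊗ₜ[R'] d) = χ d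
    exact (Algebra.TensorProduct.lift_tmul _ _ _ _ _).trans (by rw [map_one, one_mul])
  obtain ⟨D₂₀, _, _, _, _, hloc, hgi₀⟩ : ∃ (D₂₀ : Type u) (_ : CommRing D₂₀) (_ : Algebra X₂ D₂₀)
      (_ : Algebra R₂ D₂₀) (_ : IsScalarTower R₂ X₂ D₂₀) (_ : IsLocalization.Away g₀ D₂₀),
      FlatCA.GeomIntegralFibres R₂ D₂₀ :=
    ⟨Localization.Away g₀, inferInstance, inferInstance, inferInstance, inferInstance, inferInstance, hgi⟩
  letI : Algebra D' D₂₀ := ((algebraMap X₂ D₂₀).comp (RG11.incR R₂)).toAlgebra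
  letI : Algebra R' D₂₀ := ((algebraMap D' D₂₀).comp (algebraMap R' D')).toAlgebra
  haveI : IsScalarTower R' D' D₂₀ := IsScalarTower.of_algebraMap_eq fun _ => rfl
  haveI : IsScalarTower R' R₂ D₂₀ := IsScalarTower.of_algebraMap_eq fun r => by
    show algebraMap X₂ D₂₀ ((1 : R₂) ⊗ₜ[R'] algebraMap R' D' r) = algebraMap R₂ D₂₀ (algebraMap R' R₂ r)
    rw [RG11.one_tmul_algebraMap, IsScalarTower.algebraMap_apply R₂ X₂ D₂₀]
    rfl
  obtain ⟨y₀, hy₀pr, hy₀p, hy₀y, hy₀t, -⟩ := RG11.exists_point_away hp₂ g₀ (B := D₂₀) rfl y' hover.over.symm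
    (fun W hW hWp hWy hgW => by
      haveI := hW
      exact hg₀ ((RG11.eq_of_comap_eq hp₂ W y₂' hWp hy₂'p (hWy.trans hy₂'y.symm)).le hgW))
  haveI : Algebra.Etale D' D₂₀ := by
    letI : Algebra D' X₂ := Algebra.TensorProduct.rightAlgebra
    haveI : Algebra.Etale D' X₂ := Algebra.Etale.of_equiv (Algebra.TensorProduct.commRight R' D' R₂)
    haveI : IsScalarTower D' X₂ D₂₀ := IsScalarTower.of_algebraMap_eq fun _ => rfl
    haveI : Algebra.Etale X₂ D₂₀ := Algebra.Etale.of_isLocalizationAway g₀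
    exact Algebra.Etale.comp D' X₂ D₂₀
  refine ⟨R₂, inferInstance, inferInstance, D₂₀, inferInstance, inferInstance, inferInstance, inferInstance,
    inferInstance, inferInstance, p₂, inferInstance, y₀, hy₀pr, inferInstance, inferInstance, hp₂, hy₀t, hy₀p,
    hgi₀, ?_⟩
  rw [show (Algebra.TensorProduct.lift (Algebra.ofId R₂ D₂₀) (IsScalarTower.toAlgHom R' D' D₂₀)
      fun _ _ => .all _ _).toRingHom = algebraMap X₂ D₂₀ from ?_]
  · exact IsOpenImmersion.of_isLocalization g₀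
  · refine RingHom.ext fun w => ?_
    refine w.induction_on ?_ (fun r d => ?_) (fun a b ha hb => by rw [map_add, map_add, ha, hb])
    · rw [map_zero, map_zero]
    · show Algebra.TensorProduct.lift _ _ _ (r ⊗ₜ[R'] d) = _
      rw [Algebra.TensorProduct.lift_tmul,
        show r ⊗ₜ[R'] d = (r ⊗ₜ[R'] (1 : D')) * ((1 : R₂) ⊗ₜ[R'] d) by
          rw [Algebra.TensorProduct.tmul_mul_tmul, mul_one, one_mul], map_mul]
      refine congrArg₂ (· * ·) ?_ rfl
      rw [show Algebra.ofId R₂ D₂₀ r = algebraMap R₂ D₂₀ r from rfl, IsScalarTower.algebraMap_apply R₂ X₂ D₂₀]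
      rfl

end Groth.Agent.DevissBCHx
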