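import Groth.Agent.DevissBCHx.ShrinkStep
import Groth.Agent.RG11.LiftEtale
import Groth.Agent.RG11.CDAux

/-!
# The closed subscheme after shrinking
-/

set_option linter.style.haveILetI false
set_option backward.isDefEq.respectTransparency false
set_option maxHeartbeats 4000000

universe u

open TensorProduct

namespace Groth.Agent.DevissBCHx

attribute [local instance] Algebra.TensorProduct.rightAlgebra

/-- Localising a lift of the closed subscheme at an element of the base. -/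
theorem exists_shrink_closed {S C D R₂ S₂ D₂ R₃ S₃ D₃ : Type u} [CommRing S] [CommRing C] [CommRing D]
    [CommRing R₂] [CommRing S₂] [CommRing D₂] [CommRing R₃] [CommRing S₃] [CommRing D₃]
    [Algebra S C] [Algebra D C] [Algebra S S₂] [Algebra R₂ S₂] [Algebra D D₂] [Algebra R₂ D₂]
    [Algebra D D₃] [Algebra D₂ D₃] [IsScalarTower D D₂ D₃] [Algebra R₂ D₃] [IsScalarTower R₂ D₂ D₃]
    [Algebra R₂ R₃] [Algebra R₃ D₃] [IsScalarTower R₂ R₃ D₃] [Algebra S S₃] [Algebra S₂ S₃] [IsScalarTower S S₂ S₃]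
    [Algebra R₂ S₃] [IsScalarTower R₂ S₂ S₃] [Algebra R₃ S₃] [IsScalarTower R₂ R₃ S₃]
    (hsurj : Function.Surjective (algebraMap S C))
    (π : S₂ →+* D₂ ⊗[D] C) (hπ : Function.Surjective π)
    (hπS : ∀ s, π (algebraMap S S₂ s) = 1 ⊗ₜ algebraMap S C s)
    (hπR : ∀ r, π (algebraMap R₂ S₂ r) = algebraMap R₂ D₂ r ⊗ₜ 1)
    (hπker : RingHom.ker π = (RingHom.ker (algebraMap S C)).map (algebraMap S S₂))
    (f : R₂) [IsLocalization.Away f R₃] [IsLocalization.Away (algebraMap R₂ S₂ f) S₃]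
    [IsLocalization.Away (algebraMap R₂ D₂ f) D₃] :
    ∃ (_ : Algebra S (D₃ ⊗[D] C)) (_ : IsScalarTower S C (D₃ ⊗[D] C)) (_ : Algebra S₃ (D₃ ⊗[D] C))
      (_ : IsScalarTower S S₃ (D₃ ⊗[D] C)) (_ : IsScalarTower R₃ S₃ (D₃ ⊗[D] C)),
      Algebra.IsPushout S S₃ C (D₃ ⊗[D] C) := by
  let C₂ := D₂ ⊗[D] C
  let C₃ := D₃ ⊗[D] C
  let u : C₂ →ₐ[D] C₃ := Algebra.TensorProduct.map (IsScalarTower.toAlgHom D D₂ D₃) (AlgHom.id D C)
  have hu : ∀ a c, u (a ⊗ₜ[D] c) = algebraMap D₂ D₃ a ⊗ₜ[D] c := fun a c =>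
    Algebra.TensorProduct.map_tmul (IsScalarTower.toAlgHom D D₂ D₃) (AlgHom.id D C) a c
  letI : Algebra C₂ C₃ := u.toRingHom.toAlgebra
  haveI : IsScalarTower D₂ C₂ C₃ := IsScalarTower.of_algebraMap_eq fun w => (hu w 1).symm
  haveI : IsScalarTower C C₂ C₃ := IsScalarTower.of_algebraMap_eq fun c => by
    show (1 : D₃) ⊗ₜ[D] c = u ((1 : D₂) ⊗ₜ[D] c)
    rw [hu, map_one]
  haveI hlocC : IsLocalization.Away (algebraMap D₂ C₂ (algebraMap R₂ D₂ f)) C₃ := by
    have := IsLocalization.tensorProduct_tensorProduct D C (Submonoid.powers (algebraMap R₂ D₂ f)) D₃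
      (RingHom.ext fun c => ((hu 1 c).trans (by rw [map_one]) : u ((1 : D₂) ⊗ₜ[D] c) = (1 : D₃) ⊗ₜ[D] c))
    rwa [Algebra.algebraMapSubmonoid_powers] at this
  letI : Algebra S₂ C₂ := π.toAlgebra
  letI : Algebra S C₂ := ((algebraMap C C₂).comp (algebraMap S C)).toAlgebra
  haveI : IsScalarTower S C C₂ := IsScalarTower.of_algebraMap_eq fun _ => rfl
  haveI : IsScalarTower S S₂ C₂ := IsScalarTower.of_algebraMap_eq fun s => (hπS s).symm
  haveI : Algebra.IsPushout S S₂ C C₂ := RG11.isPushout_of_surjective hsurj hπ hπker.le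
  have hfC : algebraMap S₂ C₂ (algebraMap R₂ S₂ f) = algebraMap D₂ C₂ (algebraMap R₂ D₂ f) := hπR f
  haveI : IsLocalization.Away (algebraMap S₂ C₂ (algebraMap R₂ S₂ f)) C₃ := by rw [hfC]; exact hlocC
  letI : Algebra S₂ C₃ := ((algebraMap C₂ C₃).comp π).toAlgebra
  haveI : IsScalarTower S₂ C₂ C₃ := IsScalarTower.of_algebraMap_eq fun _ => rfl
  have uC : IsUnit (algebraMap S₂ C₃ (algebraMap R₂ S₂ f)) := by
    rw [IsScalarTower.algebraMap_apply S₂ C₂ C₃]; exact IsLocalization.Away.algebraMap_isUnit _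
  letI : Algebra S₃ C₃ := (IsLocalization.Away.lift (algebraMap R₂ S₂ f) uC).toAlgebra
  haveI : IsScalarTower S₂ S₃ C₃ := IsScalarTower.of_algebraMap_eq fun s =>
    (IsLocalization.Away.lift_eq (algebraMap R₂ S₂ f) uC s).symm
  haveI : Algebra.IsPushout S₂ S₃ C₂ C₃ := by
    haveI := DevissBCHx.isPushout_away (S := S₂) (C := C₂) (S' := S₃) (C' := C₃) (algebraMap R₂ S₂ f)
    exact Algebra.IsPushout.symm inferInstance
  letI : Algebra S C₃ := ((algebraMap C C₃).comp (algebraMap S C)).toAlgebra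
  haveI : IsScalarTower S C C₃ := IsScalarTower.of_algebraMap_eq fun _ => rfl
  haveI : IsScalarTower S C₂ C₃ := IsScalarTower.of_algebraMap_eq fun s => by
    rw [IsScalarTower.algebraMap_apply S C C₂, ← IsScalarTower.algebraMap_apply C C₂ C₃,
      ← IsScalarTower.algebraMap_apply S C C₃]
  haveI : IsScalarTower S S₃ C₃ := IsScalarTower.of_algebraMap_eq fun s => by
    rw [IsScalarTower.algebraMap_apply S S₂ S₃, ← IsScalarTower.algebraMap_apply S₂ S₃ C₃,
      IsScalarTower.algebraMap_apply S₂ C₂ C₃, ← IsScalarTower.algebraMap_apply S S₂ C₂,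
      ← IsScalarTower.algebraMap_apply S C₂ C₃]
  haveI : Algebra.IsPushout S S₃ C C₃ := (Algebra.IsPushout.comp_iff S S₂ C C₂).mpr inferInstance
  haveI : IsScalarTower R₃ S₃ C₃ := IsScalarTower.of_algebraMap_eq' (IsLocalization.ringHom_ext
    (Submonoid.powers f) (RingHom.ext fun r => by
      show algebraMap R₃ C₃ (algebraMap R₂ R₃ r) = algebraMap S₃ C₃ (algebraMap R₃ S₃ (algebraMap R₂ R₃ r))
      rw [← IsScalarTower.algebraMap_apply R₂ R₃ S₃, IsScalarTower.algebraMap_apply R₂ S₂ S₃,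
        ← IsScalarTower.algebraMap_apply S₂ S₃ C₃, IsScalarTower.algebraMap_apply S₂ C₂ C₃,
        show algebraMap S₂ C₂ (algebraMap R₂ S₂ r) = algebraMap R₂ D₂ r ⊗ₜ[D] (1 : C) from hπR r]
      show algebraMap R₃ D₃ (algebraMap R₂ R₃ r) ⊗ₜ[D] (1 : C) = u (algebraMap R₂ D₂ r ⊗ₜ[D] (1 : C))
      rw [← IsScalarTower.algebraMap_apply R₂ R₃ D₃, IsScalarTower.algebraMap_apply R₂ D₂ D₃, hu]))
  exact ⟨inferInstance, inferInstance, inferInstance, inferInstance, inferInstance, inferInstance⟩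

end Groth.Agent.DevissBCHx
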