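import Groth.Agent.DevissBCHx.Points
import Groth.Agent.RG11.GeomFib
import Groth.Agent.QRepLib.Naive

/-!
# Generic points of fibres of smooth algebras with geometrically irreducible fibres
-/

set_option linter.style.haveILetI false
set_option backward.isDefEq.respectTransparency false
set_option maxHeartbeats 1000000

universe u

open TensorProduct

namespace Groth.Agent.DevissBCHx

variable {R B : Type u} [CommRing R] [CommRing B] [Algebra R B]

theorem isDomain_fibre [Algebra.Smooth R B] (h : FlatCA.GeomIrredFibres R B) (p : Ideal R) [p.IsPrime] :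
    IsDomain (p.Fiber B) := by
  haveI hirr : IrreducibleSpace (PrimeSpectrum (p.Fiber B)) :=
    RG11.geomIrredFibres_iff.mp h p.ResidueField
  haveI : IsReduced (p.Fiber B) := QRepLib.isReduced_of_smooth_algebra p.ResidueField _
  have hp := PrimeSpectrum.irreducibleSpace_iff_isPrime_nilradical.mp hirr
  rw [nilradical_eq_bot_iff.mpr inferInstance] at hp
  exact Ideal.Quotient.isDomain (⊥ : Ideal (p.Fiber B)) |> fun h => (RingEquiv.quotientBot (p.Fiber B)).symm.isDomain

/-- The extended prime is the kernel of the map to the fibre. -/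
theorem map_eq_ker [Module.Flat R B] (p : Ideal R) [p.IsPrime] :
    p.map (algebraMap R B) = RingHom.ker
      (Algebra.TensorProduct.includeRight (R := R) (A := p.ResidueField) (B := B)).toRingHom := by
  set f := (Algebra.TensorProduct.includeRight (R := R) (A := p.ResidueField) (B := B)).toRingHom
  let ι : (R ⧸ p) →ₗ[R] p.ResidueField := (IsScalarTower.toAlgHom R (R ⧸ p) p.ResidueField).toLinearMap
  have hι : Function.Injective (ι.rTensor B) :=
    Module.Flat.rTensor_preserves_injective_linearMap ι (IsFractionRing.injective (R ⧸ p) p.ResidueField)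
  refine le_antisymm (Ideal.map_le_iff_le_comap.2 fun r hr => ?_) (fun a ha => ?_)
  · show (Algebra.TensorProduct.includeRight (R := R) (A := p.ResidueField) (B := B)) (algebraMap R B r) = 0
    rw [AlgHom.commutes, IsScalarTower.algebraMap_apply R p.ResidueField (p.Fiber B),
      Ideal.algebraMap_residueField_eq_zero.2 hr, map_zero]
  · have h0 : ι.rTensor B ((1 : R ⧸ p) ⊗ₜ[R] a) = 0 := by
      simp only [LinearMap.rTensor_tmul, ι, AlgHom.toLinearMap_apply, map_one]
      exact ha
    have h1 : (1 : R ⧸ p) ⊗ₜ[R] a = 0 := hι (by rw [h0, map_zero])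
    refine Ideal.Quotient.eq_zero_iff_mem.1 ((Algebra.TensorProduct.quotIdealMapEquivTensorQuot B p).injective ?_)
    rw [Algebra.TensorProduct.quotIdealMapEquivTensorQuot_mk, map_zero]
    exact (TensorProduct.comm R (R ⧸ p) B).symm.injective (by rw [map_zero, TensorProduct.comm_symm_tmul]; exact h1)

theorem isPrime_map [Algebra.Smooth R B] (h : FlatCA.GeomIrredFibres R B) (p : Ideal R) [p.IsPrime] :
    (p.map (algebraMap R B)).IsPrime := by
  haveI := isDomain_fibre h p
  rw [map_eq_ker p]
  exact RingHom.ker_isPrime _

variable {R' B' : Type u} [CommRing R'] [Algebra R R'] [CommRing B'] [Algebra R' B'] [Algebra R B']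
  [Algebra B B'] [IsScalarTower R R' B'] [IsScalarTower R B B'] [Algebra.IsPushout R R' B B']

/-- The generic point of a fibre of the base change maps to the generic point of the fibre. -/
theorem comap_map_eq_map [Algebra.Smooth R B] [Algebra.Smooth R' B'] (p : Ideal R) [p.IsPrime]
    (p' : Ideal R') [p'.IsPrime] (hp : p'.LiesOver p) :
    (p'.map (algebraMap R' B')).comap (algebraMap B B') = p.map (algebraMap R B) := by
  letI : Algebra p.ResidueField p'.ResidueField :=
    (Ideal.ResidueField.mapₐ p p' (Algebra.ofId R R') hp.over).toRingHom.toAlgebra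
  haveI : IsScalarTower R p.ResidueField p'.ResidueField := IsScalarTower.of_algebraMap_eq fun r =>
    ((Ideal.ResidueField.mapₐ p p' (Algebra.ofId R R') hp.over).commutes r).symm
  obtain ⟨e, he, -⟩ := exists_fiberEquiv p B p' B'
  rw [map_eq_ker p', map_eq_ker p]
  ext b
  show (1 : p'.ResidueField) ⊗ₜ[R'] algebraMap B B' b = 0 ↔ (1 : p.ResidueField) ⊗ₜ[R] b = 0
  rw [← map_eq_zero_iff e e.injective, he]
  exact map_eq_zero_iff _ (Algebra.TensorProduct.includeRight_injective
    (R := p.ResidueField) (A := p'.ResidueField) (B := p.Fiber B) (algebraMap p.ResidueField p'.ResidueField).injective)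

end Groth.Agent.DevissBCHx
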