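import Groth.Agent.DevissBCHx.Fibre
import Groth.Agent.FlatPureHx.UnivInj

/-!
# Base change of a one-step dévissage
-/

set_option linter.style.haveILetI false
set_option backward.isDefEq.respectTransparency false
set_option maxHeartbeats 1000000

universe u

open TensorProduct CategoryTheory AlgebraicGeometry

namespace Groth.Agent.DevissBCHx

theorem isPullback_spec {R R' D D' : Type u} [CommRing R] [CommRing R'] [CommRing D] [CommRing D']
    [Algebra R R'] [Algebra R D] [Algebra R' D'] [Algebra D D'] [Algebra R D'] [IsScalarTower R R' D']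
    [IsScalarTower R D D'] [Algebra.IsPushout R R' D D'] :
    IsPullback (Spec.map (CommRingCat.ofHom (algebraMap D D')))
      (Spec.map (CommRingCat.ofHom (algebraMap R' D'))) (Spec.map (CommRingCat.ofHom (algebraMap R D)))
      (Spec.map (CommRingCat.ofHom (algebraMap R R'))) :=
  (isPullback_SpecMap_of_isPushout _ _ _ _ (CommRingCat.isPushout_of_isPushout R R' D D')).flip

variable {R : Type u} [CommRing R] {R' : Type u} [CommRing R'] [Algebra R R']

theorem smoothRelDim_baseChange {D D' : Type u} [CommRing D] [CommRing D'] [Algebra R D] [Algebra R' D']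
    [Algebra D D'] [Algebra R D'] [IsScalarTower R R' D'] [IsScalarTower R D D']
    [Algebra.IsPushout R R' D D'] {n : ℕ} (h : FlatCA.SmoothRelDim n R D) :
    FlatCA.SmoothRelDim n R' D' :=
  (smoothOfRelativeDimension_isStableUnderBaseChange (n := n)).of_isPullback
    (isPullback_spec (R := R) (R' := R') (D := D) (D' := D')) h

theorem geomIrredFibres_baseChange {D D' : Type u} [CommRing D] [CommRing D'] [Algebra R D] [Algebra R' D']
    [Algebra D D'] [Algebra R D'] [IsScalarTower R R' D'] [IsScalarTower R D D']
    [Algebra.IsPushout R R' D D'] (h : FlatCA.GeomIrredFibres R D) :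
    FlatCA.GeomIrredFibres R' D' :=
  MorphismProperty.IsStableUnderBaseChange.of_isPullback
    (P := @GeometricallyIrreducible) (isPullback_spec (R := R) (R' := R') (D := D) (D' := D')) h

/-- In a cube of pushouts over `R → R'` the face over `S → C` is a pushout. -/
theorem isPushout_cube {S S' C C' : Type u} [CommRing S] [CommRing S'] [CommRing C] [CommRing C']
    [Algebra R S] [Algebra R' S'] [Algebra R S'] [Algebra S S'] [IsScalarTower R R' S'] [IsScalarTower R S S']
    [Algebra.IsPushout R R' S S']
    [Algebra R C] [Algebra R' C'] [Algebra R C'] [Algebra C C'] [IsScalarTower R R' C'] [IsScalarTower R C C']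
    [Algebra.IsPushout R R' C C'] [Algebra S C] [IsScalarTower R S C]
    [Algebra S' C'] [IsScalarTower R' S' C'] [Algebra S C'] [IsScalarTower S S' C'] [IsScalarTower S C C'] :
    Algebra.IsPushout S C S' C' := by
  haveI : Algebra.IsPushout R S R' S' := Algebra.IsPushout.symm inferInstance
  haveI : Algebra.IsPushout R C R' C' := Algebra.IsPushout.symm inferInstance
  haveI : IsScalarTower R S' C' := IsScalarTower.of_algebraMap_eq fun r => by
    rw [IsScalarTower.algebraMap_apply R R' C', IsScalarTower.algebraMap_apply R R' S',
      ← IsScalarTower.algebraMap_apply R' S' C']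
  exact (Algebra.IsPushout.comp_iff R S R' S').mp inferInstance

/-- A surjection stays surjective after base change. -/
theorem surjective_of_isPushout {S C S' C' : Type u} [CommRing S] [CommRing C] [CommRing S'] [CommRing C']
    [Algebra S C] [Algebra S S'] [Algebra S' C'] [Algebra C C'] [Algebra S C'] [IsScalarTower S S' C']
    [IsScalarTower S C C'] [h : Algebra.IsPushout S C S' C'] (hs : Function.Surjective (algebraMap S C)) :
    Function.Surjective (algebraMap S' C') := by
  intro c'
  obtain ⟨w, rfl⟩ := (Algebra.IsPushout.equiv S C S' C').surjective c'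
  induction w with
  | zero => exact ⟨0, by simp⟩
  | add x y hx hy =>
    obtain ⟨a, ha⟩ := hx
    obtain ⟨b, hb⟩ := hy
    exact ⟨a + b, by simp [ha, hb]⟩
  | tmul c s' =>
    obtain ⟨s, rfl⟩ := hs c
    refine ⟨algebraMap S S' s * s', ?_⟩
    rw [Algebra.IsPushout.equiv_tmul, map_mul, ← IsScalarTower.algebraMap_apply,
      ← IsScalarTower.algebraMap_apply]

theorem finitePresentation_of_isPushout {S C S' C' : Type u} [CommRing S] [CommRing C] [CommRing S']
    [CommRing C'] [Algebra S C] [Algebra S S'] [Algebra S' C'] [Algebra C C'] [Algebra S C']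
    [IsScalarTower S S' C'] [IsScalarTower S C C'] [Algebra.IsPushout S C S' C']
    [Algebra.FinitePresentation S C] : Algebra.FinitePresentation S' C' :=
  haveI : Algebra.IsPushout S S' C C' := Algebra.IsPushout.symm inferInstance
  (Algebra.FinitePresentation.equiv (Algebra.IsPushout.equiv S S' C C'))

theorem finite_of_isPushout {S C S' C' : Type u} [CommRing S] [CommRing C] [CommRing S']
    [CommRing C'] [Algebra S C] [Algebra S S'] [Algebra S' C'] [Algebra C C'] [Algebra S C']
    [IsScalarTower S S' C'] [IsScalarTower S C C'] [Algebra.IsPushout S C S' C']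
    [Module.Finite S C] : Module.Finite S' C' :=
  haveI : Algebra.IsPushout S S' C C' := Algebra.IsPushout.symm inferInstance
  Module.Finite.equiv (Algebra.IsPushout.equiv S S' C C').toLinearEquiv

/-- Base change of a one-step dévissage. -/
theorem isOneStepDevissage_baseChange {S : Type u} [CommRing S] [Algebra R S] [Algebra.FiniteType R S]
    {N : Type u} [AddCommGroup N] [Module S N] [Module R N] [IsScalarTower R S N] [Module.Finite S N]
    {p : Ideal R} [p.IsPrime]
    {C D G : Type u} [CommRing C] [CommRing D] [Algebra S C] [Algebra R C] [IsScalarTower R S C]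
    [Algebra R D] [Algebra D C] [IsScalarTower R D C] [AddCommGroup G] [Module C G] [Module S G]
    [IsScalarTower S C G] {n : ℕ} (h : FlatCA.IsOneStepDevissage R S N p C D G n)
    (p' : Ideal R') [p'.IsPrime] (hp : p'.LiesOver p)
    (S' C' D' : Type u) [CommRing S'] [CommRing C'] [CommRing D']
    [Algebra R' S'] [Algebra R S'] [Algebra S S'] [IsScalarTower R R' S'] [IsScalarTower R S S']
    [Algebra.IsPushout R R' S S']
    [Algebra R' C'] [Algebra R C'] [Algebra C C'] [IsScalarTower R R' C'] [IsScalarTower R C C']
    [Algebra.IsPushout R R' C C']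
    [Algebra R' D'] [Algebra R D'] [Algebra D D'] [IsScalarTower R R' D'] [IsScalarTower R D D']
    [Algebra.IsPushout R R' D D']
    [Algebra S' C'] [IsScalarTower R' S' C'] [Algebra S C'] [IsScalarTower S S' C'] [IsScalarTower S C C']
    [Algebra D' C'] [IsScalarTower R' D' C'] [Algebra D C'] [IsScalarTower D D' C'] [IsScalarTower D C C']
    (N' : Type u) [AddCommGroup N'] [Module S' N'] [Module R' N'] [IsScalarTower R' S' N']
    [Module S N'] [IsScalarTower S S' N'] {f : N →ₗ[S] N'} (hf : IsBaseChange S' f)
    (G' : Type u) [AddCommGroup G'] [Module C' G'] [Module S' G'] [IsScalarTower S' C' G']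
    [Module C G'] [IsScalarTower C C' G'] {g : G →ₗ[C] G'} (hg : IsBaseChange C' g) :
    FlatCA.IsOneStepDevissage R' S' N' p' C' D' G' n := by
  obtain ⟨⟨iso⟩, hsurj, hfp, hfinD, hfinG, hsm, hgi, hdim⟩ := h
  haveI : Algebra.IsPushout S C S' C' := isPushout_cube (R := R) (R' := R')
  haveI : Algebra.IsPushout D C D' C' := isPushout_cube (R := R) (R' := R')
  refine ⟨?_, surjective_of_isPushout hsurj, finitePresentation_of_isPushout (S := S) (C := C),
    finite_of_isPushout (S := D) (C := C), Module.Finite.equiv hg.equiv,
    smoothRelDim_baseChange hsm, geomIrredFibres_baseChange hgi, ?_⟩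
  · letI : Module S G' := Module.compHom G' (algebraMap S C')
    haveI : IsScalarTower S C' G' := IsScalarTower.of_algebraMap_smul fun _ _ => rfl
    haveI : IsScalarTower S C G' := IsScalarTower.of_algebraMap_smul fun s x => by
      rw [← algebraMap_smul C' (algebraMap S C s) x, ← IsScalarTower.algebraMap_apply]
      rfl
    haveI : IsScalarTower S S' G' := IsScalarTower.of_algebraMap_smul fun s x => by
      rw [← algebraMap_smul C' (algebraMap S S' s) x, ← IsScalarTower.algebraMap_apply]
      rfl
    have hgS : IsBaseChange S' (g.restrictScalars S) :=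
      FlatPureHx.isBaseChange_of_isPushout (A := S) (B := C) (A' := S') (B' := C') hg
    exact ⟨hf.equiv.symm.trans ((TensorProduct.AlgebraTensorModule.congr (LinearEquiv.refl S' S') iso).trans
      hgS.equiv)⟩
  · rw [supportDim_fiberMod_baseChange p S p' S' hp N N' hf, hdim]

end Groth.Agent.DevissBCHx
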