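import Groth.Agent.DevissBCHx.GenericDim
import Groth.Agent.DevissBCHx.Generic
import Groth.Agent.DevissBCHx.OneStep
import Groth.Agent.RG11.CDAux
import Groth.Agent.FlatPureHx.UnivInj
import Groth.Agent.MorLib.UnramLocus

/-!
# Transport of a one-step dévissage along étale maps
-/

set_option linter.style.haveILetI false
set_option backward.isDefEq.respectTransparency false
set_option maxHeartbeats 4000000

universe u

open TensorProduct

namespace Groth.Agent.DevissBCHx

/-- A one-step dévissage pulled back along compatible étale maps. -/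
theorem oneStep_etale
    {R S : Type u} [CommRing R] [CommRing S] [Algebra R S] [Algebra.FiniteType R S]
    {N : Type u} [AddCommGroup N] [Module S N] [Module R N] [IsScalarTower R S N] [Module.Finite S N]
    {p : Ideal R} [p.IsPrime]
    {C D G : Type u} [CommRing C] [CommRing D] [Algebra S C] [Algebra R C] [IsScalarTower R S C]
    [Algebra R D] [Algebra D C] [IsScalarTower R D C] [AddCommGroup G] [Module C G] [Module S G]
    [IsScalarTower S C G] {n : ℕ} (h : FlatCA.IsOneStepDevissage R S N p C D G n)
    (y : Ideal D) [y.IsPrime] (hy : y.comap (algebraMap R D) = p)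
    {R' S' C' D' : Type u} [CommRing R'] [CommRing S'] [CommRing C'] [CommRing D']
    [Algebra R R'] [Algebra.Etale R R'] [Algebra S S'] [Algebra.Etale S S'] [Algebra D D'] [Algebra.Etale D D']
    [Algebra R S'] [IsScalarTower R S S'] [Algebra R' S'] [IsScalarTower R R' S']
    [Algebra R D'] [IsScalarTower R D D'] [Algebra R' D'] [IsScalarTower R R' D']
    [Algebra C C'] [Algebra S C'] [IsScalarTower S C C'] [Algebra S' C'] [IsScalarTower S S' C']
    [Algebra D C'] [IsScalarTower D C C'] [Algebra D' C'] [IsScalarTower D D' C']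
    [Algebra R' C'] [IsScalarTower R' S' C'] [IsScalarTower R' D' C']
    [Algebra.IsPushout D D' C C'] [Algebra.IsPushout S S' C C']
    (p' : Ideal R') [p'.IsPrime] (hp' : p'.comap (algebraMap R R') = p) (q' : Ideal S') [q'.IsPrime]
    (z' : Ideal C') [z'.IsPrime] (y' : Ideal D') [y'.IsPrime]
    (hzq : z'.comap (algebraMap S' C') = q') (hzy : z'.comap (algebraMap D' C') = y')
    (hyp : y'.comap (algebraMap R' D') = p')
    (huniq : ∀ Q : Ideal C', Q.IsPrime → Q.comap (algebraMap D' C') = y' → Q = z')
    (hsm' : FlatCA.SmoothRelDim n R' D') (hgi' : FlatCA.GeomIrredFibres R' D')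
    {N' G' : Type u} [AddCommGroup N'] [Module S' N'] [Module S N'] [IsScalarTower S S' N'] [Module R' N']
    [IsScalarTower R' S' N'] {gN : N →ₗ[S] N'} (hN : IsBaseChange S' gN)
    [AddCommGroup G'] [Module C' G'] [Module C G'] [IsScalarTower C C' G'] [Module S' G'] [IsScalarTower S' C' G']
    {gG : G →ₗ[C] G'} (hG : IsBaseChange C' gG) :
    FlatCA.IsOneStepDevissage R' S' N' p' C' D' G' n ∧
      ∃ (ξ : PrimeSpectrum (p'.Fiber S')) (hξ : ξ ∈ Module.support (p'.Fiber S') (FlatCA.fiberMod p' S' N')),
        ξ.asIdeal = FlatCA.fiberIdeal p' q' ∧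
        FlatMor.localDim (Module.support (p'.Fiber S') (FlatCA.fiberMod p' S' N')) ⟨ξ, hξ⟩ = n := by
  obtain ⟨⟨iso⟩, hsurj, hfp, hfinD, hfinG, hsm, hgi, hdim⟩ := h
  haveI := hfinD
  haveI := hfinG
  haveI := hfp
  haveI := RG11.smooth_of_smoothRelDim hsm
  haveI := RG11.smooth_of_smoothRelDim hsm'
  letI : Module D G := Module.compHom G (algebraMap D C)
  haveI : IsScalarTower D C G := IsScalarTower.of_algebraMap_smul fun _ _ => rfl
  haveI : Module.Finite D G := Module.Finite.trans C G
  haveI : Module.Finite C' G' := Module.Finite.equiv hG.equiv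
  haveI : Module.Finite S' N' := Module.Finite.equiv hN.equiv
  haveI : Algebra.IsPushout S C S' C' := Algebra.IsPushout.symm inferInstance
  haveI : Algebra.IsPushout D C D' C' := Algebra.IsPushout.symm inferInstance
  haveI : Module.Finite D' C' := finite_of_isPushout (S := D) (C := C)
  -- the isomorphism
  letI : Module S G' := Module.compHom G' (algebraMap S C')
  haveI : IsScalarTower S C' G' := IsScalarTower.of_algebraMap_smul fun _ _ => rfl
  haveI : IsScalarTower S S' G' := IsScalarTower.of_algebraMap_smul fun s x => by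
    rw [← algebraMap_smul C' (algebraMap S S' s) x, ← IsScalarTower.algebraMap_apply]
    rfl
  haveI : IsScalarTower S C G' := IsScalarTower.of_algebraMap_smul fun s x => by
    rw [← algebraMap_smul C' (algebraMap S C s) x, ← IsScalarTower.algebraMap_apply]
    rfl
  have hgS : IsBaseChange S' (gG.restrictScalars S) :=
    FlatPureHx.isBaseChange_of_isPushout (A := S) (B := C) (A' := S') (B' := C') hG
  let iso' : N' ≃ₗ[S'] G' := hN.equiv.symm.trans
    ((TensorProduct.AlgebraTensorModule.congr (LinearEquiv.refl S' S') iso).trans hgS.equiv)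
  -- over `D`
  letI : Module D' G' := Module.compHom G' (algebraMap D' C')
  haveI : IsScalarTower D' C' G' := IsScalarTower.of_algebraMap_smul fun _ _ => rfl
  letI : Module D G' := Module.compHom G' (algebraMap D C')
  haveI : IsScalarTower D C' G' := IsScalarTower.of_algebraMap_smul fun _ _ => rfl
  haveI : IsScalarTower D D' G' := IsScalarTower.of_algebraMap_smul fun s x => by
    rw [← algebraMap_smul C' (algebraMap D D' s) x, ← IsScalarTower.algebraMap_apply]
    rfl
  haveI : IsScalarTower D C G' := IsScalarTower.of_algebraMap_smul fun s x => by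
    rw [← algebraMap_smul C' (algebraMap D C s) x, ← IsScalarTower.algebraMap_apply]
    rfl
  have hgD : IsBaseChange D' (gG.restrictScalars D) :=
    FlatPureHx.isBaseChange_of_isPushout (A := D) (B := C) (A' := D') (B' := C') hG
  -- generic points
  haveI hP : (p.map (algebraMap R D)).IsPrime := isPrime_map hgi p
  have hPp : (p.map (algebraMap R D)).comap (algebraMap R D) = p :=
    le_antisymm ((Ideal.comap_mono (Ideal.map_le_iff_le_comap.2 hy.ge)).trans hy.le) Ideal.le_comap_map
  haveI hP' : (p'.map (algebraMap R' D')).IsPrime := isPrime_map hgi' p'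
  have hP'p : (p'.map (algebraMap R' D')).comap (algebraMap R' D') = p' :=
    le_antisymm ((Ideal.comap_mono (Ideal.map_le_iff_le_comap.2 hyp.ge)).trans hyp.le) Ideal.le_comap_map
  have hgen := generic_mem_support N G hsurj iso hsm p hPp hdim.ge
  have hgen' : (⟨p'.map (algebraMap R' D'), inferInstance⟩ : PrimeSpectrum D') ∈ Module.support D' G' := by
    rw [hgD.equiv.symm.support_eq]
    refine (MorLib.UnrLocus.support_baseChange_iff (A := D) (B := D') G _).2 ?_
    convert hgen
    exact RG11.comap_map_generic hp' rfl hPp rfl hP'p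
  haveI : Algebra.FiniteType R S' := Algebra.FiniteType.trans (inferInstance : Algebra.FiniteType R S) inferInstance
  haveI : Algebra.FiniteType R' S' := Algebra.FiniteType.of_restrictScalars_finiteType R R' S'
  have hsurj' : Function.Surjective (algebraMap S' C') := surjective_of_isPushout hsurj
  obtain ⟨hdim', hloc⟩ := supportDim_and_localDim_of_generic N' G' hsurj' iso' hsm' p' hgen' q' z' y' hzq hzy hyp huniq
  exact ⟨⟨⟨iso'⟩, hsurj', finitePresentation_of_isPushout (S := S) (C := C), inferInstance, inferInstance,
    hsm', hgi', hdim'⟩, hloc⟩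

end Groth.Agent.DevissBCHx
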