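import Groth.Agent.DevissBCHx.ShrinkStep

/-!
# Open immersions after shrinking the base
-/

set_option linter.style.haveILetI false
set_option backward.isDefEq.respectTransparency false
set_option maxHeartbeats 2000000

universe u

open TensorProduct AlgebraicGeometry CategoryTheory

namespace Groth.Agent.DevissBCHx

attribute [local instance] Algebra.TensorProduct.rightAlgebra

/-- An open of a base change stays open after shrinking the base. -/
theorem isOpenImmersion_shrink {R' D' R₂ D₂₀ R₃ D₃ : Type u} [CommRing R'] [CommRing D'] [CommRing R₂]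
    [CommRing D₂₀] [CommRing R₃] [CommRing D₃] [Algebra R' D'] [Algebra R' R₂] [Algebra R' R₃] [Algebra R₂ R₃]
    [IsScalarTower R' R₂ R₃] [Algebra D' D₂₀] [Algebra R₂ D₂₀] [Algebra R' D₂₀] [IsScalarTower R' R₂ D₂₀]
    [IsScalarTower R' D' D₂₀] [Algebra D₂₀ D₃] [Algebra D' D₃] [IsScalarTower D' D₂₀ D₃] [Algebra R₂ D₃]
    [IsScalarTower R₂ D₂₀ D₃] [Algebra R₃ D₃] [IsScalarTower R₂ R₃ D₃] [Algebra (R₃ ⊗[R'] D') D₃]
    [IsScalarTower R₃ (R₃ ⊗[R'] D') D₃] [IsScalarTower D' (R₃ ⊗[R'] D') D₃] (f : R₂) [IsLocalization.Away f R₃]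
    (e : D₂₀) [IsLocalization.Away e D₃]
    (h : IsOpenImmersion (Spec.map (CommRingCat.ofHom (Algebra.TensorProduct.lift (Algebra.ofId R₂ D₂₀)
        (IsScalarTower.toAlgHom R' D' D₂₀) fun _ _ => .all _ _).toRingHom))) :
    IsOpenImmersion (Spec.map (CommRingCat.ofHom (algebraMap (R₃ ⊗[R'] D') D₃))) := by
  let X₂ := R₂ ⊗[R'] D'
  let T := R₃ ⊗[R'] D'
  let β : X₂ →ₐ[R'] T := Algebra.TensorProduct.map (IsScalarTower.toAlgHom R' R₂ R₃) (AlgHom.id R' D')
  letI : Algebra X₂ T := β.toRingHom.toAlgebra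
  haveI : IsScalarTower R₂ X₂ T := IsScalarTower.of_algebraMap_eq fun r => by
    show algebraMap R₂ R₃ r ⊗ₜ[R'] (1 : D') = β (r ⊗ₜ[R'] 1)
    exact (Algebra.TensorProduct.map_tmul (IsScalarTower.toAlgHom R' R₂ R₃) (AlgHom.id R' D') r 1).symm
  haveI : IsScalarTower D' X₂ T := IsScalarTower.of_algebraMap_eq fun x => by
    show (1 : R₃) ⊗ₜ[R'] x = β ((1 : R₂) ⊗ₜ[R'] x)
    exact ((Algebra.TensorProduct.map_tmul (IsScalarTower.toAlgHom R' R₂ R₃) (AlgHom.id R' D') 1 x).trans (by rw [map_one]; rfl)).symm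
  haveI : Algebra.IsPushout R' R₂ D' X₂ := inferInstance
  haveI : Algebra.IsPushout R₂ R₃ X₂ T := (Algebra.IsPushout.comp_iff R' R₂ D' X₂).mp inferInstance
  haveI : IsLocalization (Algebra.algebraMapSubmonoid X₂ (Submonoid.powers f)) T :=
    (Algebra.isLocalization_iff_isPushout (Submonoid.powers f) R₃ (T := X₂) (B := T)).mpr (Algebra.IsPushout.symm inferInstance)
  haveI : IsLocalization.Away (algebraMap R₂ X₂ f) T := by
    rw [Algebra.algebraMapSubmonoid_powers] at *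
    assumption
  haveI : IsOpenImmersion (Spec.map (CommRingCat.ofHom (algebraMap X₂ T))) :=
    IsOpenImmersion.of_isLocalization (algebraMap R₂ X₂ f)
  haveI := h
  haveI : IsOpenImmersion (Spec.map (CommRingCat.ofHom (algebraMap D₂₀ D₃))) := IsOpenImmersion.of_isLocalization e
  haveI : IsOpenImmersion (Spec.map (CommRingCat.ofHom (algebraMap T D₃)) ≫
      Spec.map (CommRingCat.ofHom (algebraMap X₂ T))) := by
    rw [← Spec.map_comp, ← CommRingCat.ofHom_comp,
      show (algebraMap T D₃).comp (algebraMap X₂ T) = (algebraMap D₂₀ D₃).comp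
        (Algebra.TensorProduct.lift (Algebra.ofId R₂ D₂₀) (IsScalarTower.toAlgHom R' D' D₂₀)
          fun _ _ => .all _ _).toRingHom from ?_, CommRingCat.ofHom_comp, Spec.map_comp]
    · infer_instance
    · refine RingHom.ext fun w => ?_
      refine w.induction_on ?_ (fun r d => ?_) (fun a b ha hb => by rw [map_add, map_add, ha, hb])
      · rw [map_zero, map_zero]
      · show algebraMap T D₃ (β (r ⊗ₜ[R'] d)) = algebraMap D₂₀ D₃ (Algebra.TensorProduct.lift _ _ _ (r ⊗ₜ[R'] d))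
        rw [Algebra.TensorProduct.lift_tmul, map_mul,
          show β (r ⊗ₜ[R'] d) = algebraMap R₃ T (algebraMap R₂ R₃ r) * algebraMap D' T d from
            (Algebra.TensorProduct.map_tmul _ _ _ _).trans (by
              show algebraMap R₂ R₃ r ⊗ₜ[R'] d = (algebraMap R₂ R₃ r ⊗ₜ[R'] (1 : D')) * ((1 : R₃) ⊗ₜ[R'] d)
              rw [Algebra.TensorProduct.tmul_mul_tmul, mul_one, one_mul]),
          map_mul, ← IsScalarTower.algebraMap_apply R₃ T D₃, ← IsScalarTower.algebraMap_apply D' T D₃,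
          ← IsScalarTower.algebraMap_apply R₂ R₃ D₃]
        show algebraMap R₂ D₃ r * algebraMap D' D₃ d =
          algebraMap D₂₀ D₃ (algebraMap R₂ D₂₀ r) * algebraMap D₂₀ D₃ (algebraMap D' D₂₀ d)
        rw [← IsScalarTower.algebraMap_apply, ← IsScalarTower.algebraMap_apply]
  exact IsOpenImmersion.of_comp _ (Spec.map (CommRingCat.ofHom (algebraMap X₂ T)))

/-- Geometric irreducibility after shrinking. -/
theorem exists_shrink_image {R₂ D₂₀ : Type u} [CommRing R₂] [CommRing D₂₀] [Algebra R₂ D₂₀]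
    [Algebra.Smooth R₂ D₂₀] (hgi : FlatCA.GeomIrredFibres R₂ D₂₀) (p₂ : Ideal R₂) (y₀ : Ideal D₂₀) [y₀.IsPrime]
    (hy₀ : y₀.comap (algebraMap R₂ D₂₀) = p₂) (d : D₂₀) (hd : d ∉ y₀) :
    ∃ f ∉ p₂, ∀ (R₃ D₃ : Type u) [CommRing R₃] [CommRing D₃] [Algebra R₂ R₃] [Algebra D₂₀ D₃] [Algebra R₂ D₃]
      [Algebra R₃ D₃] [IsScalarTower R₂ R₃ D₃] [IsScalarTower R₂ D₂₀ D₃] [IsLocalization.Away f R₃]
      [IsLocalization.Away (d * algebraMap R₂ D₂₀ f) D₃], FlatCA.GeomIrredFibres R₃ D₃ := by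
  obtain ⟨f, hf, himg⟩ := exists_image_nhd (R := R₂) d y₀ hd
  refine ⟨f, fun h => hf (hy₀.ge h), fun R₃ D₃ _ _ _ _ _ _ _ _ _ _ => ?_⟩
  refine geomIrredFibres_away (R := R₂) (B := D₂₀) f (d * algebraMap R₂ D₂₀ f) hgi fun t ht => ?_
  obtain ⟨P, hP, hPt⟩ := himg t ht
  exact ⟨P, fun hm => (P.isPrime.mem_or_mem hm).elim hP fun hfP => ht (hPt.le hfP), hPt⟩

end Groth.Agent.DevissBCHx
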