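import Groth.Prelude.Def_FlatCA
import Groth.Agent.S6284
import Groth.Agent.Synt29.Descent

/-!
# The fibre module of a base change
-/

set_option linter.style.haveILetI false
set_option backward.isDefEq.respectTransparency false
set_option maxHeartbeats 1000000

universe u

open TensorProduct

namespace Groth.Agent.DevissBCHx

/-- Extending the ground field keeps the dimension of a closed subscheme. -/
theorem ringKrullDim_tensor_quotient (k K F : Type u) [Field k] [Field K] [Algebra k K] [CommRing F]
    [Algebra k F] [Algebra.FiniteType k F] (J : Ideal F) :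
    ringKrullDim ((K ⊗[k] F) ⧸ J.map (Algebra.TensorProduct.includeRight (R := k) (A := K) (B := F))) =
      ringKrullDim (F ⧸ J) := by
  rw [← ringKrullDim_eq_of_ringEquiv
    (Algebra.TensorProduct.tensorQuotientEquiv (R := k) K F K J).toRingEquiv]
  rcases subsingleton_or_nontrivial (F ⧸ J) with h | h
  · rw [ringKrullDim_eq_bot_of_subsingleton, ringKrullDim_eq_bot_of_subsingleton]
  · exact Synt29.ringKrullDim_tensor_field _ _ _

/-- Extending the ground field keeps the dimension of a closed subscheme, up to isomorphism. -/
theorem ringKrullDim_quotient_of_tensorEquiv (k K F F' : Type u) [Field k] [Field K] [Algebra k K]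
    [CommRing F] [Algebra k F] [Algebra.FiniteType k F] [CommRing F'] (e : F' ≃+* K ⊗[k] F)
    (J : Ideal F) (J' : Ideal F')
    (hJ : J.map (Algebra.TensorProduct.includeRight (R := k) (A := K) (B := F)) = J'.map e) :
    ringKrullDim (F' ⧸ J') = ringKrullDim (F ⧸ J) := by
  rw [ringKrullDim_eq_of_ringEquiv (Ideal.quotientEquiv J' _ e hJ), ringKrullDim_tensor_quotient]

section Support

attribute [local instance] Algebra.TensorProduct.rightAlgebra

variable {R : Type u} [CommRing R] (p : Ideal R) [p.IsPrime] (S : Type u) [CommRing S] [Algebra R S]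

theorem algebraMap_fiber_eq : algebraMap S (p.Fiber S) =
    (Algebra.TensorProduct.includeRight (R := R) (A := p.ResidueField) (B := S)).toRingHom := rfl

/-- The support of the fibre module is cut out by the annihilator. -/
theorem support_fiberMod (N : Type u) [AddCommGroup N] [Module S N] [Module R N] [IsScalarTower R S N]
    [Module.Finite S N] :
    Module.support (p.Fiber S) (FlatCA.fiberMod p S N) = PrimeSpectrum.zeroLocus
      (((Module.annihilator S N).map
        (Algebra.TensorProduct.includeRight (R := R) (A := p.ResidueField) (B := S)).toRingHom :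
          Ideal (p.Fiber S)) : Set (p.Fiber S)) := by
  refine (Groth.Agent.S6284.result (R := S) (R' := p.Fiber S) N).trans ?_
  rw [Module.support_eq_zeroLocus, PrimeSpectrum.preimage_comap_zeroLocus,
    ← algebraMap_fiber_eq p S, Ideal.map, PrimeSpectrum.zeroLocus_span]

/-- The support of a module after base change is cut out by the extended annihilator. -/
theorem support_of_isBaseChange {S : Type u} [CommRing S] (S' : Type u) [CommRing S'] [Algebra S S']
    {N N' : Type u} [AddCommGroup N] [Module S N] [Module.Finite S N] [AddCommGroup N'] [Module S' N']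
    [Module S N'] [IsScalarTower S S' N'] {f : N →ₗ[S] N'} (hf : IsBaseChange S' f) :
    Module.support S' N' = PrimeSpectrum.zeroLocus
      (((Module.annihilator S N).map (algebraMap S S') : Ideal S') : Set S') := by
  rw [← hf.equiv.support_eq, Groth.Agent.S6284.result, Module.support_eq_zeroLocus,
    PrimeSpectrum.preimage_comap_zeroLocus, Ideal.map, PrimeSpectrum.zeroLocus_span]

/-- The support of the fibre module of a base change. -/
theorem support_fiberMod_baseChange {R' : Type u} [CommRing R'] (p' : Ideal R') [p'.IsPrime]
    {S : Type u} [CommRing S] (S' : Type u) [CommRing S'] [Algebra R' S'] [Algebra S S']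
    {N : Type u} [AddCommGroup N] [Module S N] [Module.Finite S N]
    (N' : Type u) [AddCommGroup N'] [Module S' N'] [Module R' N'] [IsScalarTower R' S' N']
    [Module S N'] [IsScalarTower S S' N'] {f : N →ₗ[S] N'} (hf : IsBaseChange S' f) :
    Module.support (p'.Fiber S') (FlatCA.fiberMod p' S' N') = PrimeSpectrum.zeroLocus
      (((Module.annihilator S N).map
        ((Algebra.TensorProduct.includeRight (R := R') (A := p'.ResidueField) (B := S')).toRingHom.comp
          (algebraMap S S')) : Ideal (p'.Fiber S')) : Set (p'.Fiber S')) := by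
  haveI : Module.Finite S' N' := Module.Finite.equiv hf.equiv
  refine (Groth.Agent.S6284.result (R := S') (R' := p'.Fiber S') N').trans ?_
  rw [support_of_isBaseChange S' hf, PrimeSpectrum.preimage_comap_zeroLocus, ← Ideal.map_map,
    ← algebraMap_fiber_eq p' S']
  conv_rhs => rw [Ideal.map, PrimeSpectrum.zeroLocus_span]

end Support

section FiberBC

variable {R : Type u} [CommRing R] (p : Ideal R) [p.IsPrime] (S : Type u) [CommRing S] [Algebra R S]
  {R' : Type u} [CommRing R'] [Algebra R R'] (p' : Ideal R') [p'.IsPrime]
  (S' : Type u) [CommRing S'] [Algebra R' S'] [Algebra R S'] [Algebra S S'] [IsScalarTower R R' S']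
  [IsScalarTower R S S'] [Algebra.IsPushout R R' S S']

/-- The fibre of a base change is the fibre of the residue field extension. -/
theorem exists_fiberEquiv [Algebra p.ResidueField p'.ResidueField]
    [IsScalarTower R p.ResidueField p'.ResidueField] :
    ∃ e : p'.Fiber S' ≃+* p'.ResidueField ⊗[p.ResidueField] (p.Fiber S),
      (∀ s : S, e (1 ⊗ₜ algebraMap S S' s) = 1 ⊗ₜ (1 ⊗ₜ s)) ∧
      ∀ k : p'.ResidueField, e (k ⊗ₜ 1) = k ⊗ₜ 1 := by
  let K := p'.ResidueField
  let e1 : K ⊗[R'] S' ≃ₐ[K] K ⊗[R'] (R' ⊗[R] S) :=
    Algebra.TensorProduct.congr AlgEquiv.refl (Algebra.IsPushout.equiv R R' S S').symm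
  let e2 : K ⊗[R'] (R' ⊗[R] S) ≃ₐ[K] K ⊗[R] S :=
    Algebra.TensorProduct.cancelBaseChange R R' K K S
  let e3 : K ⊗[p.ResidueField] (p.ResidueField ⊗[R] S) ≃ₐ[K] K ⊗[R] S :=
    Algebra.TensorProduct.cancelBaseChange R p.ResidueField K K S
  refine ⟨((e1.trans e2).trans e3.symm).toRingEquiv, fun s => ?_, fun k => ?_⟩
  · show e3.symm (e2 (e1 (1 ⊗ₜ algebraMap S S' s))) = _
    simp [e1, e2, e3, Algebra.IsPushout.equiv_symm_algebraMap_right]
  · show e3.symm (e2 (e1 (k ⊗ₜ 1))) = _
    simp [e1, e2, e3, Algebra.TensorProduct.one_def]

variable (hp : p'.LiesOver p)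

include hp in
/-- The dimension of the support of the fibre module is stable under base change. -/
theorem supportDim_fiberMod_baseChange [Algebra.FiniteType R S]
    (N : Type u) [AddCommGroup N] [Module S N] [Module R N] [IsScalarTower R S N] [Module.Finite S N]
    (N' : Type u) [AddCommGroup N'] [Module S' N'] [Module R' N'] [IsScalarTower R' S' N']
    [Module S N'] [IsScalarTower S S' N'] {f : N →ₗ[S] N'} (hf : IsBaseChange S' f) :
    Module.supportDim (p'.Fiber S') (FlatCA.fiberMod p' S' N') =
      Module.supportDim (p.Fiber S) (FlatCA.fiberMod p S N) := by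
  letI : Algebra p.ResidueField p'.ResidueField :=
    (Ideal.ResidueField.mapₐ p p' (Algebra.ofId R R') hp.over).toRingHom.toAlgebra
  haveI : IsScalarTower R p.ResidueField p'.ResidueField := IsScalarTower.of_algebraMap_eq fun r =>
    ((Ideal.ResidueField.mapₐ p p' (Algebra.ofId R R') hp.over).commutes r).symm
  obtain ⟨e, he, -⟩ := exists_fiberEquiv p S p' S'
  set I := Module.annihilator S N
  rw [Module.supportDim, Module.supportDim, support_fiberMod p S N,
    support_fiberMod_baseChange p' S' N' hf, ← ringKrullDim_quotient, ← ringKrullDim_quotient]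
  set J : Ideal (p.Fiber S) := I.map
    (Algebra.TensorProduct.includeRight (R := R) (A := p.ResidueField) (B := S)).toRingHom
  set J' : Ideal (p'.Fiber S') := I.map
    ((Algebra.TensorProduct.includeRight (R := R') (A := p'.ResidueField) (B := S')).toRingHom.comp
      (algebraMap S S'))
  have hJ : J.map (Algebra.TensorProduct.includeRight (R := p.ResidueField) (A := p'.ResidueField)
      (B := p.Fiber S)) = J'.map e := by
    rw [← Ideal.map_coe e, ← Ideal.map_coe (Algebra.TensorProduct.includeRight (R := p.ResidueField)
      (A := p'.ResidueField) (B := p.Fiber S)), Ideal.map_map, Ideal.map_map]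
    congr 1
    ext s
    simp [he]
  exact ringKrullDim_quotient_of_tensorEquiv p.ResidueField p'.ResidueField (p.Fiber S)
    (p'.Fiber S') e J J' hJ

end FiberBC

end Groth.Agent.DevissBCHx
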