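import Groth.Agent.DevissBCHx.Shrink
import Groth.Agent.RG11.FibreDim

/-!
# Fibre dimensions along a finite map onto a smooth algebra
-/

set_option linter.style.haveILetI false
set_option backward.isDefEq.respectTransparency false
set_option linter.unusedSectionVars false
set_option linter.unusedVariables false
set_option maxHeartbeats 1000000

universe u

open TensorProduct Order

namespace Groth.Agent.DevissBCHx

section Order

/-- Liftable upwards: coheights do not drop. -/
theorem coheight_le_of_uplift {α β : Type*} [PartialOrder α] [PartialOrder β] (f : α → β)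
    (h : ∀ b y, f b < y → ∃ b', b < b' ∧ f b' = y) (b : α) : coheight (f b) ≤ coheight b :=
  RG11.height_le_of_lift (α := βᵒᵈ) (β := αᵒᵈ) (fun x => OrderDual.toDual (f (OrderDual.ofDual x)))
    (fun b' a ha => h (OrderDual.ofDual b') (OrderDual.ofDual a) ha) (OrderDual.toDual b)

theorem krullDim_le_of_uplift {α β : Type*} [PartialOrder α] [PartialOrder β] (f : α → β)
    (hs : Function.Surjective f) (h : ∀ b y, f b < y → ∃ b', b < b' ∧ f b' = y) :
    krullDim β ≤ krullDim α := by
  rw [krullDim_eq_iSup_coheight (α := β), iSup_le_iff]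
  intro y
  obtain ⟨b, rfl⟩ := hs y
  exact (WithBot.coe_le_coe.mpr (coheight_le_of_uplift f h b)).trans (coheight_le_krullDim b)

/-- Going up and uniqueness of a point bound its height. -/
theorem height_le_of_uplift {α β : Type*} [PartialOrder α] [PartialOrder β] (f : α → β) (hf : StrictMono f)
    (hs : Function.Surjective f) (h : ∀ b y, f b < y → ∃ b', b < b' ∧ f b' = y) (a : α)
    (huniq : ∀ b, f b = f a → b = a) : height (f a) ≤ height a := by
  have hle : ∀ b, f b ≤ f a → b ≤ a := by
    intro b hb
    rcases hb.lt_or_eq with hlt | heq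
    · obtain ⟨b', hb', hb'a⟩ := h b _ hlt
      exact (huniq b' hb'a) ▸ hb'.le
    · exact (huniq b heq).le
  let g : Set.Iic a → Set.Iic (f a) := fun b => ⟨f b.1, hf.monotone b.2⟩
  have hg : Function.Surjective g := fun y => by
    obtain ⟨b, hb⟩ := hs y.1
    exact ⟨⟨b, hle b (hb ▸ y.2)⟩, Subtype.ext hb⟩
  have hlift : ∀ b y, g b < y → ∃ b', b < b' ∧ g b' = y := by
    intro b y hby
    obtain ⟨b', hb', hy⟩ := h b.1 y.1 hby
    exact ⟨⟨b', hle b' (hy ▸ y.2)⟩, hb', Subtype.ext hy⟩
  have := krullDim_le_of_uplift g hg hlift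
  rw [← height_eq_krullDim_Iic, ← height_eq_krullDim_Iic] at this
  exact WithBot.coe_le_coe.mp this

end Order

variable {R S C D : Type u} [CommRing R] [CommRing S] [CommRing C] [CommRing D] [Algebra R S] [Algebra S C]
  [Algebra R C] [IsScalarTower R S C] [Algebra R D] [Algebra D C] [IsScalarTower R D C]
  (N : Type u) [AddCommGroup N] [Module S N] [Module R N] [IsScalarTower R S N] [Module.Finite S N]
  (G : Type u) [AddCommGroup G] [Module C G] [Module S G] [IsScalarTower S C G] [Module.Finite C G]
  [Module D G] [IsScalarTower D C G] [Module.Finite D C]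
  (hsurj : Function.Surjective (algebraMap S C)) (iso : N ≃ₗ[S] G) {n : ℕ} (hsm : FlatCA.SmoothRelDim n R D)
  (p : Ideal R) [p.IsPrime]

/-- The points of the fibre support of `G` in the spectrum of `C`. -/
abbrev XC : Set (PrimeSpectrum C) :=
  {c | c ∈ Module.support C G ∧ c.asIdeal.comap (algebraMap R C) = p}

/-- The fibre of `D`. -/
abbrev XD (D : Type u) [CommRing D] [Algebra R D] : Set (PrimeSpectrum D) :=
  {P | P.asIdeal.comap (algebraMap R D) = p}

/-- The map from the fibre support to the fibre of `D`. -/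
def toD (c : XC (C := C) G p) : XD p D :=
  ⟨PrimeSpectrum.comap (algebraMap D C) c.1, by
    show (c.1.asIdeal.comap (algebraMap D C)).comap (algebraMap R D) = p
    rw [Ideal.comap_comap, ← IsScalarTower.algebraMap_eq]
    exact c.2.2⟩

theorem strictMono_toD : StrictMono (toD (C := C) (D := D) G p) := fun _ _ h =>
  Ideal.IsIntegral.comap_lt_comap (R := D) h

include hsm in
theorem length_XD_le (l : LTSeries (XD p D)) : l.length ≤ n :=
  FlatFibres.length_le_of_smoothRelDim p D hsm l

include hsurj iso in
/-- The two fibre supports agree. -/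
theorem exists_XC_orderIso : ∃ e : XC (C := C) G p ≃o fibSet p N,
    ∀ c, (e c).1 = PrimeSpectrum.comap (algebraMap S C) c.1 := by
  have hsupp : Module.support S N = Module.support S G := iso.support_eq
  have hmem : ∀ c : PrimeSpectrum C, PrimeSpectrum.comap (algebraMap S C) c ∈ fibSet p N ↔ c ∈ XC (C := C) G p :=
    fun c => by
      refine and_congr (by rw [hsupp]; exact RG11.mem_support_comap_iff hsurj c) ?_
      show (c.asIdeal.comap _).comap _ = p ↔ _
      rw [Ideal.comap_comap, ← IsScalarTower.algebraMap_eq]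
  have hrange : ∀ s ∈ fibSet p N, ∃ c, PrimeSpectrum.comap (algebraMap S C) c = s := by
    intro s hs
    show s ∈ Set.range (PrimeSpectrum.comap (algebraMap S C))
    rw [range_comap_of_surjective _ _ hsurj]
    intro r hr
    obtain ⟨m, hm⟩ := Module.mem_support_iff'.1 (hsupp ▸ hs.1 : s ∈ Module.support S G)
    by_contra h0
    exact hm r h0 (by rw [← algebraMap_smul C r m, RingHom.mem_ker.1 hr, zero_smul])
  choose inv hinv using hrange
  let e : XC (C := C) G p ≃ fibSet p N :=
    { toFun := fun c => ⟨_, (hmem c.1).mpr c.2⟩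
      invFun := fun s => ⟨inv s.1 s.2, (hmem _).mp (by rw [hinv s.1 s.2]; exact s.2)⟩
      left_inv := fun c => Subtype.ext (PrimeSpectrum.comap_injective_of_surjective _ hsurj (hinv _ _))
      right_inv := fun s => Subtype.ext (hinv _ _) }
  exact ⟨{ e with map_rel_iff' := fun {a b} =>
    Ideal.comap_le_comap_iff_of_surjective (algebraMap S C) hsurj a.1.asIdeal b.1.asIdeal }, fun _ => rfl⟩

include hsurj iso hsm in
theorem supportDim_le : Module.supportDim (p.Fiber S) (FlatCA.fiberMod p S N) ≤ n := by
  obtain ⟨e, -⟩ := exists_XC_orderIso N G hsurj iso p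
  rw [FlatFibres.supportDim_fiberMod]
  refine (krullDim_eq_of_orderIso e).symm.le.trans ((krullDim_le_of_strictMono _ (strictMono_toD (D := D) G p)).trans ?_)
  exact iSup_le fun l => by exact_mod_cast length_XD_le hsm p l

include hsurj iso hsm in
/-- The generic point of the fibre of `D` carries the module when the fibre support has full dimension. -/
theorem generic_mem_support [(p.map (algebraMap R D)).IsPrime] (hη : (p.map (algebraMap R D)).comap (algebraMap R D) = p)
    (hdim : (n : WithBot ℕ∞) ≤ Module.supportDim (p.Fiber S) (FlatCA.fiberMod p S N)) :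
    (⟨p.map (algebraMap R D), inferInstance⟩ : PrimeSpectrum D) ∈ Module.support D G := by
  by_contra hne
  obtain ⟨e, -⟩ := exists_XC_orderIso N G hsurj iso p
  rw [FlatFibres.supportDim_fiberMod] at hdim
  obtain ⟨l, hl⟩ := Order.le_krullDim_iff.mp (hdim.trans (krullDim_eq_of_orderIso e).symm.le)
  let η : XD p D := ⟨⟨p.map (algebraMap R D), inferInstance⟩, hη⟩
  let l' : LTSeries (XD p D) := l.map (toD (D := D) G p) (strictMono_toD (D := D) G p)
  have hlt : η < l'.head := by
    refine lt_of_le_of_ne (show η.1.asIdeal ≤ _ from Ideal.map_le_iff_le_comap.2 l'.head.2.ge) fun h => hne ?_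
    have h2 : (toD (D := D) G p l.head).1 ∈ Module.support D G := RG11.mem_support_comap _ l.head.2.1
    rw [show toD (D := D) G p l.head = η from h.symm] at h2
    exact h2
  have := length_XD_le hsm p (l'.cons η hlt)
  rw [RelSeries.cons_length] at this
  have h3 : l'.length = l.length := rfl
  omega

attribute [local instance] Algebra.TensorProduct.rightAlgebra

include hsurj iso hsm in
/-- The fibre support has full local dimension at a point alone over a point of `D`. -/
theorem supportDim_and_localDim_of_generic [Algebra.FiniteType R S] [(p.map (algebraMap R D)).IsPrime]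
    (hgen : (⟨p.map (algebraMap R D), inferInstance⟩ : PrimeSpectrum D) ∈ Module.support D G)
    (q : Ideal S) [q.IsPrime] (z : Ideal C) [z.IsPrime] (y : Ideal D) [y.IsPrime]
    (hzq : z.comap (algebraMap S C) = q) (hzy : z.comap (algebraMap D C) = y)
    (hyp : y.comap (algebraMap R D) = p)
    (huniq : ∀ Q : Ideal C, Q.IsPrime → Q.comap (algebraMap D C) = y → Q = z) :
    Module.supportDim (p.Fiber S) (FlatCA.fiberMod p S N) = n ∧
    ∃ (ξ : PrimeSpectrum (p.Fiber S)) (hξ : ξ ∈ Module.support (p.Fiber S) (FlatCA.fiberMod p S N)),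
      ξ.asIdeal = FlatCA.fiberIdeal p q ∧
      FlatMor.localDim (Module.support (p.Fiber S) (FlatCA.fiberMod p S N)) ⟨ξ, hξ⟩ = n := by
  haveI := RG11.smooth_of_smoothRelDim hsm
  haveI : Module.Finite D G := Module.Finite.trans C G
  have hsuppD : ∀ P : XD p D, P.1 ∈ Module.support D G := fun P =>
    Module.mem_support_mono (show (⟨p.map (algebraMap R D), inferInstance⟩ : PrimeSpectrum D) ≤ P.1 from
      Ideal.map_le_iff_le_comap.2 P.2.ge) hgen
  -- lifting
  have hlift : ∀ (I : Ideal C) (P : XD p D), I.comap (algebraMap D C) ≤ P.1.asIdeal → Module.annihilator C G ≤ I →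
      ∃ c : XC (C := C) G p, I ≤ c.1.asIdeal ∧ toD (D := D) G p c = P := by
    intro I P hIP hann
    obtain ⟨Q, hIQ, hQ, hQP⟩ := Ideal.exists_ideal_over_prime_of_isIntegral P.1.asIdeal I hIP
    refine ⟨⟨⟨Q, hQ⟩, ?_, ?_⟩, hIQ, Subtype.ext (PrimeSpectrum.ext hQP)⟩
    · rw [Module.support_eq_zeroLocus]; exact hann.trans hIQ
    · show Q.comap (algebraMap R C) = p
      rw [IsScalarTower.algebraMap_eq R D C, ← Ideal.comap_comap, hQP]
      exact P.2
  have hannD : ∀ P : XD p D, (Module.annihilator C G).comap (algebraMap D C) ≤ P.1.asIdeal := fun P d hd => by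
    have h1 := hsuppD P
    rw [Module.support_eq_zeroLocus] at h1
    exact h1 (Module.mem_annihilator.2 fun m => by rw [← algebraMap_smul C d m]; exact Module.mem_annihilator.1 hd m)
  have hsurjD : Function.Surjective (toD (D := D) G p (C := C)) := fun P => by
    obtain ⟨c, -, hc⟩ := hlift _ P (hannD P) le_rfl
    exact ⟨c, hc⟩
  have hup : ∀ (b : XC (C := C) G p) (P : XD p D), toD (D := D) G p b < P → ∃ b', b < b' ∧ toD (D := D) G p b' = P := by
    intro b P hbP
    obtain ⟨b', hbb', hb'⟩ := hlift b.1.asIdeal P hbP.le (fun x hx => by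
      have h1 := b.2.1
      rw [Module.support_eq_zeroLocus] at h1
      exact h1 hx)
    exact ⟨b', lt_of_le_of_ne hbb' fun e => hbP.ne (by rw [e, hb']), hb'⟩
  -- the points
  let Y : XD p D := ⟨⟨y, inferInstance⟩, hyp⟩
  obtain ⟨Z, hZ⟩ := hsurjD Y
  have hZz : Z.1.asIdeal = z := huniq _ Z.1.isPrime (congrArg (fun P : XD p D => P.1.asIdeal) hZ)
  have hZuniq : ∀ b, toD (D := D) G p b = toD (D := D) G p Z → b = Z := fun b hb => Subtype.ext (PrimeSpectrum.ext
    ((huniq _ b.1.isPrime (congrArg (fun P : XD p D => P.1.asIdeal) (hb.trans hZ))).trans hZz.symm))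
  have hh : height Y ≤ height Z :=
    hZ ▸ height_le_of_uplift _ (strictMono_toD (D := D) G p) hsurjD hup Z hZuniq
  have hc : coheight Y ≤ coheight Z := hZ ▸ coheight_le_of_uplift _ hup Z
  -- the fibre of `D`
  let eD : XD p D ≃o PrimeSpectrum (p.Fiber D) :=
    (OrderIso.setCongr _ _ (Set.ext fun P => ⟨fun h => PrimeSpectrum.ext h, fun h => congrArg PrimeSpectrum.asIdeal h⟩)).trans
      (PrimeSpectrum.preimageOrderIsoFiber R D ⟨p, inferInstance⟩)
  have hY : ((height Y + coheight Y : ℕ∞) : WithBot ℕ∞) = n := by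
    rw [← height_orderIso eD, ← coheight_orderIso eD, ← CAlgOdd.LocalDimSpec.localDim_eq_add p.ResidueField (eD Y)]
    exact RG11.localDim_fiber_smooth hsm Y.1 p hyp (eD Y) (congrArg (fun w => w.1.asIdeal)
      ((PrimeSpectrum.preimageOrderIsoFiber R D ⟨p, inferInstance⟩).symm_apply_apply ⟨Y.1, PrimeSpectrum.ext hyp⟩))
  -- transport
  obtain ⟨e, he⟩ := exists_XC_orderIso N G hsurj iso p
  obtain ⟨e', he'⟩ := RG11.exists_fibre_orderIso (S := S) p N
  haveI : Module.Finite (p.Fiber S) (FlatCA.fiberMod p S N) :=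
    inferInstanceAs (Module.Finite (p.Fiber S) ((p.Fiber S) ⊗[S] N))
  have hco : coheight (e' (e Z)) ≤ coheight (e' (e Z)).1 :=
    coheight_le_coheight_apply_of_strictMono (fun x : Module.support (p.Fiber S) (FlatCA.fiberMod p S N) => x.1)
      (fun _ _ h => h) _
  have hge : (n : WithBot ℕ∞) ≤
      FlatMor.localDim (Module.support (p.Fiber S) (FlatCA.fiberMod p S N)) (e' (e Z)) := by
    rw [RG11.localDim_support (k := p.ResidueField), height_orderIso e', height_orderIso e, ← hY, WithBot.coe_le_coe]
    refine add_le_add hh (hc.trans ?_)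
    rw [← coheight_orderIso e, ← coheight_orderIso e']
    exact hco
  have hle := supportDim_le N G hsurj iso hsm p
  have hloc := H23.TopDim.localDim_le_dim (e' (e Z))
  rw [← supportDim_eq_topological] at hloc
  refine ⟨le_antisymm hle (hge.trans hloc), (e' (e Z)).1, (e' (e Z)).2, ?_, le_antisymm (hloc.trans hle) hge⟩
  rw [(he' (e Z)).2]
  congr 1
  have h1 : (e Z).1.asIdeal = Z.1.asIdeal.comap (algebraMap S C) := congrArg PrimeSpectrum.asIdeal (he Z)
  exact h1.trans (by rw [hZz, hzq])

end Groth.Agent.DevissBCHx
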