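import Groth.Agent.DevissBCHx.OneStep
import Groth.Agent.FibDim.Top

/-!
# Points of a base change with trivial residue field extension
-/

set_option linter.style.haveILetI false
set_option backward.isDefEq.respectTransparency false
set_option maxHeartbeats 1000000

universe u

open TensorProduct

namespace Groth.Agent.DevissBCHx

variable {R : Type u} [CommRing R]

section FiberIdeal

variable (p : Ideal R) [p.IsPrime] {S : Type u} [CommRing S] [Algebra R S]

theorem mem_of_smul_mem (I : Ideal (p.Fiber S)) {r : R} (hr : r ∉ p) {x : p.Fiber S}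
    (h : r • x ∈ I) : x ∈ I := by
  have h0 : algebraMap R p.ResidueField r ≠ 0 := by
    rwa [ne_eq, Ideal.algebraMap_residueField_eq_zero]
  have := I.mul_mem_left (algebraMap p.ResidueField (p.Fiber S) (algebraMap R p.ResidueField r)⁻¹) h
  rwa [Algebra.smul_def, IsScalarTower.algebraMap_apply R p.ResidueField (p.Fiber S), ← mul_assoc,
    ← map_mul, inv_mul_cancel₀ h0, map_one, one_mul] at this

/-- A prime of the fibre is generated by its trace. -/
theorem eq_fiberIdeal_comap (P : Ideal (p.Fiber S)) :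
    P = FlatCA.fiberIdeal p (P.comap
      (Algebra.TensorProduct.includeRight (R := R) (A := p.ResidueField) (B := S)).toRingHom) := by
  refine le_antisymm (fun x hx => ?_) Ideal.map_comap_le
  obtain ⟨r, hr, s, hs⟩ := Ideal.Fiber.exists_smul_eq_one_tmul p x
  refine mem_of_smul_mem p _ hr ?_
  rw [hs]
  refine Ideal.mem_map_of_mem _ ?_
  show (1 : p.ResidueField) ⊗ₜ[R] s ∈ P
  rw [← hs, Algebra.smul_def]
  exact P.mul_mem_left _ hx

theorem exists_prime_fiber (q : Ideal S) [q.IsPrime] (hq : q.LiesOver p) :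
    (FlatCA.fiberIdeal p q).IsPrime ∧ (FlatCA.fiberIdeal p q).comap
      (Algebra.TensorProduct.includeRight (R := R) (A := p.ResidueField) (B := S)).toRingHom = q := by
  let E := PrimeSpectrum.preimageEquivFiber R S ⟨p, inferInstance⟩
  let q' : PrimeSpectrum.comap (algebraMap R S) ⁻¹' {(⟨p, inferInstance⟩ : PrimeSpectrum R)} :=
    ⟨⟨q, inferInstance⟩, PrimeSpectrum.ext hq.over.symm⟩
  have h : (E q').asIdeal.comap (Algebra.TensorProduct.includeRight
      (R := R) (A := p.ResidueField) (B := S)).toRingHom = q :=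
    congrArg (fun z => z.1.asIdeal) (E.symm_apply_apply q')
  have h2 : (E q').asIdeal = FlatCA.fiberIdeal p q := by
    conv_lhs => rw [eq_fiberIdeal_comap p (E q').asIdeal]
    rw [h]
  exact ⟨h2 ▸ (E q').isPrime, h2 ▸ h⟩

end FiberIdeal

variable {R' : Type u} [CommRing R'] [Algebra R R'] (p : Ideal R) [p.IsPrime] (p' : Ideal R') [p'.IsPrime]
  (hp : p'.LiesOver p)
  (hκ : Function.Bijective (Ideal.ResidueField.mapₐ p p' (Algebra.ofId R R') hp.over))
  (S : Type u) [CommRing S] [Algebra R S]
  (S' : Type u) [CommRing S'] [Algebra R' S'] [Algebra R S'] [Algebra S S'] [IsScalarTower R R' S']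
  [IsScalarTower R S S'] [Algebra.IsPushout R R' S S']

include hκ in
/-- With trivial residue field extension the fibre does not change. -/
theorem exists_fiberIso :
    ∃ E : p.Fiber S ≃+* p'.Fiber S', ∀ s : S, E (1 ⊗ₜ s) = 1 ⊗ₜ algebraMap S S' s := by
  letI : Algebra p.ResidueField p'.ResidueField :=
    (Ideal.ResidueField.mapₐ p p' (Algebra.ofId R R') hp.over).toRingHom.toAlgebra
  haveI : IsScalarTower R p.ResidueField p'.ResidueField := IsScalarTower.of_algebraMap_eq fun r =>
    ((Ideal.ResidueField.mapₐ p p' (Algebra.ofId R R') hp.over).commutes r).symm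
  let eK : p.ResidueField ≃ₐ[p.ResidueField] p'.ResidueField :=
    AlgEquiv.ofBijective (Algebra.ofId _ _) hκ
  let e0 : p.Fiber S ≃ₐ[p.ResidueField] p'.ResidueField ⊗[p.ResidueField] (p.Fiber S) :=
    (Algebra.TensorProduct.lid p.ResidueField (p.Fiber S)).symm.trans
      (Algebra.TensorProduct.congr eK AlgEquiv.refl)
  obtain ⟨e, he, -⟩ := exists_fiberEquiv p S p' S'
  refine ⟨e0.toRingEquiv.trans e.symm, fun s => ?_⟩
  show e.symm (e0 (1 ⊗ₜ s)) = _
  rw [RingEquiv.symm_apply_eq, he]
  simp [e0]

include hκ in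
/-- With trivial residue field extension there is one prime over a given one. -/
theorem eq_of_liesOver (q : Ideal S) [q.IsPrime] (q₁ q₂ : Ideal S') [q₁.IsPrime] [q₂.IsPrime]
    (h₁ : q₁.LiesOver q) (h₁' : q₁.LiesOver p') (h₂ : q₂.LiesOver q) (h₂' : q₂.LiesOver p') :
    q₁ = q₂ := by
  obtain ⟨E, hE⟩ := exists_fiberIso p p' hp hκ S S'
  have key : ∀ (Q : Ideal S') [Q.IsPrime], Q.LiesOver q → Q.LiesOver p' →
      FlatCA.fiberIdeal p' Q = (FlatCA.fiberIdeal p q).map E := by
    intro Q _ hQ hQ'
    obtain ⟨hP, hPQ⟩ := exists_prime_fiber p' Q hQ'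
    haveI := hP
    have hc : ((FlatCA.fiberIdeal p' Q).comap E).comap (Algebra.TensorProduct.includeRight
        (R := R) (A := p.ResidueField) (B := S)).toRingHom = q := by
      ext s
      rw [hQ.over, Ideal.mem_comap, Ideal.mem_comap, Ideal.under_def, Ideal.mem_comap]
      show E (1 ⊗ₜ s) ∈ _ ↔ _
      rw [hE]
      conv_rhs => rw [← hPQ]
      rfl
    conv_lhs => rw [← Ideal.map_comap_of_surjective E E.surjective (FlatCA.fiberIdeal p' Q)]
    rw [eq_fiberIdeal_comap p ((FlatCA.fiberIdeal p' Q).comap E), hc]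
  rw [← (exists_prime_fiber p' q₁ h₁').2, ← (exists_prime_fiber p' q₂ h₂').2, key q₁ h₁ h₁',
    key q₂ h₂ h₂']

include hκ in
/-- With trivial residue field extension the residue field of a point does not change. -/
theorem residueField_map_surjective (y : Ideal S) [y.IsPrime] [y.LiesOver p] (y' : Ideal S')
    [y'.IsPrime] [hy : y'.LiesOver y] [y'.LiesOver p'] :
    Function.Surjective (Ideal.ResidueField.map y y' (algebraMap S S') hy.over) := by
  obtain ⟨E, hE⟩ := exists_fiberIso p p' hp hκ S S'
  set φ := Ideal.ResidueField.map y y' (algebraMap S S') hy.over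
  let ψ : p'.Fiber S' →+* y'.ResidueField := (Algebra.TensorProduct.lift
    (Ideal.ResidueField.mapₐ p' y' (Algebra.ofId R' S') (Ideal.over_def y' p'))
    (IsScalarTower.toAlgHom R' S' y'.ResidueField) fun _ _ => .all _ _).toRingHom
  have hψ : ∀ s' : S', ψ (1 ⊗ₜ s') = algebraMap S' y'.ResidueField s' := fun s' => by simp [ψ]
  have hnum : ∀ s' : S', algebraMap S' y'.ResidueField s' ∈ φ.fieldRange := by
    intro s'
    obtain ⟨x, hx⟩ := E.surjective (1 ⊗ₜ s')
    obtain ⟨r, hr, s, hs⟩ := Ideal.Fiber.exists_smul_eq_one_tmul p x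
    have hr' : algebraMap R S r ∉ y := fun h => hr (by rwa [Ideal.mem_of_liesOver y p])
    have h1 : r • x = (1 ⊗ₜ[R] algebraMap R S r) * x := by
      rw [Algebra.smul_def, ← (Algebra.TensorProduct.includeRight (R := R) (A := p.ResidueField)
        (B := S)).commutes r]
      rfl
    have h2 : φ (algebraMap S y.ResidueField (algebraMap R S r)) * algebraMap S' y'.ResidueField s' =
        φ (algebraMap S y.ResidueField s) := by
      have := congrArg (ψ ∘ E) hs
      simp only [Function.comp_apply, h1, map_mul, hE, hx, hψ] at this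
      simpa [φ, Ideal.ResidueField.map_algebraMap] using this
    have h0 : φ (algebraMap S y.ResidueField (algebraMap R S r)) ≠ 0 := by
      rwa [ne_eq, map_eq_zero, Ideal.algebraMap_residueField_eq_zero]
    rw [show algebraMap S' y'.ResidueField s' = (φ (algebraMap S y.ResidueField (algebraMap R S r)))⁻¹ *
      φ (algebraMap S y.ResidueField s) by rw [← h2, inv_mul_cancel_left₀ h0]]
    exact mul_mem (inv_mem ⟨_, rfl⟩) ⟨_, rfl⟩
  intro k
  obtain ⟨a, b, hb, rfl⟩ := IsFractionRing.div_surjective (S' ⧸ y') k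
  obtain ⟨a, rfl⟩ := Ideal.Quotient.mk_surjective a
  obtain ⟨b, rfl⟩ := Ideal.Quotient.mk_surjective b
  rw [Ideal.algebraMap_quotient_residueField_mk, Ideal.algebraMap_quotient_residueField_mk]
  exact div_mem (hnum a) (hnum b)

/-- Purely transcendental extensions transfer along isomorphisms. -/
theorem purelyTranscendental_transfer {k k' L L' : Type u} [Field k] [Field k'] [Field L] [Field L']
    [Algebra k L] [Algebra k' L'] (f : k →+* k') (hf : Function.Bijective f) (g : L →+* L')
    (hg : Function.Bijective g) (h : (algebraMap k' L').comp f = g.comp (algebraMap k L))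
    {ι : Type u} {x : ι → L} (hx : IsTranscendenceBasis k x)
    (hgen : IntermediateField.adjoin k (Set.range x) = ⊤) :
    IsTranscendenceBasis k' (g ∘ x) ∧ IntermediateField.adjoin k' (Set.range (g ∘ x)) = ⊤ := by
  refine ⟨⟨hx.1.ringHom_of_comp_eq f g hf.2 hg.1 h, fun s hs hsub => ?_⟩, ?_⟩
  · have hs' : AlgebraicIndepOn k id (g ⁻¹' s) := by
      refine AlgebraicIndependent.of_ringHom_of_comp_eq f g ?_ hf.1 h
      exact hs.comp (fun i : g ⁻¹' s => (⟨g i.1, i.2⟩ : s)) fun a b hab =>
        Subtype.ext (hg.1 (congrArg Subtype.val hab))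
    have h2 := hx.2 (g ⁻¹' s) hs' (fun a ⟨i, hi⟩ => hsub ⟨i, by simp [← hi]⟩)
    rw [Set.range_comp, h2, Set.image_preimage_eq _ hg.2]
  · have hmap : (IntermediateField.adjoin k (Set.range x)).toSubfield.map g =
        (IntermediateField.adjoin k' (Set.range (g ∘ x))).toSubfield := by
      rw [IntermediateField.adjoin_toSubfield, IntermediateField.adjoin_toSubfield,
        RingHom.map_field_closure, Set.image_union, ← Set.range_comp, ← Set.range_comp,
        ← RingHom.coe_comp, ← h, RingHom.coe_comp, hf.2.range_comp]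
    refine top_le_iff.mp fun z _ => ?_
    obtain ⟨w, rfl⟩ := hg.2 z
    show g w ∈ (IntermediateField.adjoin k' (Set.range (g ∘ x))).toSubfield
    rw [← hmap]
    exact ⟨w, show w ∈ IntermediateField.adjoin k (Set.range x) by rw [hgen]; trivial, rfl⟩

include hκ in
/-- Purely transcendental residue extensions survive base change. -/
theorem purelyTranscendental_baseChange (y : Ideal S) [y.IsPrime] [y.LiesOver p] (y' : Ideal S')
    [y'.IsPrime] [hy : y'.LiesOver y] [y'.LiesOver p'] (h : FlatCA.PurelyTranscendental p y) :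
    FlatCA.PurelyTranscendental p' y' := by
  letI : Algebra p.ResidueField y.ResidueField :=
    (Ideal.ResidueField.mapₐ p y (Algebra.ofId R S) (Ideal.over_def y p)).toRingHom.toAlgebra
  letI : Algebra p'.ResidueField y'.ResidueField :=
    (Ideal.ResidueField.mapₐ p' y' (Algebra.ofId R' S') (Ideal.over_def y' p')).toRingHom.toAlgebra
  obtain ⟨ι, x, hx, hgen⟩ := h
  have hcomp : (algebraMap p'.ResidueField y'.ResidueField).comp
      (Ideal.ResidueField.mapₐ p p' (Algebra.ofId R R') hp.over).toRingHom =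
      (Ideal.ResidueField.map y y' (algebraMap S S') hy.over).comp
        (algebraMap p.ResidueField y.ResidueField) := by
    refine Ideal.ResidueField.ringHom_ext (RingHom.ext fun r => ?_)
    show Ideal.ResidueField.mapₐ p' y' (Algebra.ofId R' S') (Ideal.over_def y' p')
        (Ideal.ResidueField.mapₐ p p' (Algebra.ofId R R') hp.over (algebraMap R p.ResidueField r)) =
      Ideal.ResidueField.map y y' (algebraMap S S') hy.over (Ideal.ResidueField.mapₐ p y
        (Algebra.ofId R S) (Ideal.over_def y p) (algebraMap R p.ResidueField r))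
    rw [AlgHom.commutes, AlgHom.commutes, IsScalarTower.algebraMap_apply R S y.ResidueField,
      Ideal.ResidueField.map_algebraMap, IsScalarTower.algebraMap_apply R R' p'.ResidueField,
      AlgHom.commutes, ← IsScalarTower.algebraMap_apply R S S', IsScalarTower.algebraMap_apply R R' S',
      ← IsScalarTower.algebraMap_apply R' S' y'.ResidueField]
  exact ⟨ι, _, purelyTranscendental_transfer _ hκ _
    ⟨RingHom.injective _, residueField_map_surjective p p' hp hκ S S' y y'⟩ hcomp hx hgen⟩

include hκ in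
/-- The local dimension of the fibre support does not change. -/
theorem exists_localDim_baseChange
    (N : Type u) [AddCommGroup N] [Module S N] [Module R N] [IsScalarTower R S N] [Module.Finite S N]
    (N' : Type u) [AddCommGroup N'] [Module S' N'] [Module R' N'] [IsScalarTower R' S' N']
    [Module S N'] [IsScalarTower S S' N'] {f : N →ₗ[S] N'} (hf : IsBaseChange S' f)
    (q : Ideal S) [q.IsPrime] [q.LiesOver p] (q' : Ideal S') [q'.IsPrime] [q'.LiesOver q] [q'.LiesOver p']
    {n : WithBot ℕ∞}
    (h1 : ∃ (ξ : PrimeSpectrum (p.Fiber S)) (hξ : ξ ∈ Module.support (p.Fiber S) (FlatCA.fiberMod p S N)),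
      ξ.asIdeal = FlatCA.fiberIdeal p q ∧
      FlatMor.localDim (Module.support (p.Fiber S) (FlatCA.fiberMod p S N)) ⟨ξ, hξ⟩ = n) :
    ∃ (ξ' : PrimeSpectrum (p'.Fiber S'))
      (hξ' : ξ' ∈ Module.support (p'.Fiber S') (FlatCA.fiberMod p' S' N')),
      ξ'.asIdeal = FlatCA.fiberIdeal p' q' ∧
      FlatMor.localDim (Module.support (p'.Fiber S') (FlatCA.fiberMod p' S' N')) ⟨ξ', hξ'⟩ = n := by
  obtain ⟨ξ, hξ, hξq, hdim⟩ := h1
  obtain ⟨E, hE⟩ := exists_fiberIso p p' hp hκ S S'
  let h : PrimeSpectrum (p.Fiber S) ≃ₜ PrimeSpectrum (p'.Fiber S') :=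
    PrimeSpectrum.homeomorphOfRingEquiv E
  have hsets : Module.support (p.Fiber S) (FlatCA.fiberMod p S N) =
      h ⁻¹' Module.support (p'.Fiber S') (FlatCA.fiberMod p' S' N') := by
    rw [support_fiberMod p S N, support_fiberMod_baseChange p' S' N' hf]
    ext P
    rw [Set.mem_preimage, PrimeSpectrum.mem_zeroLocus, PrimeSpectrum.mem_zeroLocus, SetLike.coe_subset_coe,
      SetLike.coe_subset_coe, Ideal.map_le_iff_le_comap, Ideal.map_le_iff_le_comap]
    have : (h P).asIdeal.comap ((Algebra.TensorProduct.includeRight (R := R') (A := p'.ResidueField)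
        (B := S')).toRingHom.comp (algebraMap S S')) = P.asIdeal.comap
        (Algebra.TensorProduct.includeRight (R := R) (A := p.ResidueField) (B := S)).toRingHom := by
      ext s
      show E.symm ((1 : p'.ResidueField) ⊗ₜ[R'] algebraMap S S' s) ∈ P.asIdeal ↔ _
      rw [← hE, E.symm_apply_apply]
      rfl
    rw [this]
  let hs := h.sets hsets
  have hh : (h ξ).asIdeal = FlatCA.fiberIdeal p' q' := by
    rw [eq_fiberIdeal_comap p' (h ξ).asIdeal]
    congr 1
    haveI hP := ((h ξ).isPrime).comap
      (Algebra.TensorProduct.includeRight (R := R') (A := p'.ResidueField) (B := S')).toRingHom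
    refine eq_of_liesOver p p' hp hκ S S' q _ q' ⟨?_⟩ ⟨?_⟩ inferInstance inferInstance
    · rw [← (exists_prime_fiber p q inferInstance).2, ← hξq]
      ext s
      rw [Ideal.under_def, Ideal.mem_comap, Ideal.mem_comap, Ideal.mem_comap]
      show _ ↔ E.symm ((1 : p'.ResidueField) ⊗ₜ[R'] algebraMap S S' s) ∈ ξ.asIdeal
      rw [← hE, E.symm_apply_apply]
      rfl
    · rw [Ideal.under_def, Ideal.comap_comap]
      exact ((Ideal.over_def (h ξ).asIdeal p').trans (by rw [Ideal.under_def]; congr 1; exact
        ((Algebra.TensorProduct.includeRight (R := R') (A := p'.ResidueField) (B := S')).comp_algebraMap).symm))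
  refine ⟨h ξ, (hs ⟨ξ, hξ⟩).2, hh, ?_⟩
  rw [← hdim, ← FibDim.localDim_homeomorph hs ⟨ξ, hξ⟩]
  rfl

end Groth.Agent.DevissBCHx
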