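import Groth.Agent.DevissBCHx.Points
import Groth.Agent.RG11.GeomFib
import Groth.Agent.RG11.GoodAux
import Groth.Agent.H23.TopDim

/-!
# Principal open subsets of the pieces of a dévissage
-/

set_option linter.style.haveILetI false
set_option backward.isDefEq.respectTransparency false
set_option maxHeartbeats 1000000

universe u

open TensorProduct TopologicalSpace

namespace Groth.Agent.DevissBCHx

section Top

variable {X Y : Type u} [TopologicalSpace X] [TopologicalSpace Y]

theorem localDim_openEmbedding {f : X → Y} (hf : Topology.IsOpenEmbedding f) (x : X) :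
    FlatMor.localDim Y (f x) = FlatMor.localDim X x := by
  refine le_antisymm (le_iInf fun U => ?_) (le_iInf fun U => ?_)
  · refine iInf_le_of_le ⟨⟨f '' U.1, hf.isOpenMap _ U.1.2⟩, ⟨x, U.2, rfl⟩⟩ (le_of_eq ?_)
    exact ((hf.isEmbedding.homeomorphImage _).isHomeomorph.topologicalKrullDim_eq).symm
  · refine iInf_le_of_le ⟨⟨f ⁻¹' U.1, U.1.2.preimage hf.continuous⟩, U.2⟩ ?_
    exact (hf.isEmbedding.restrictPreimage (U.1 : Set Y)).isInducing.topologicalKrullDim_le

end Top

section Dim

theorem topologicalKrullDim_zeroLocus {F : Type u} [CommRing F] (I : Ideal F) :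
    topologicalKrullDim (PrimeSpectrum.zeroLocus (I : Set F)) =
      Order.krullDim (PrimeSpectrum.zeroLocus (I : Set F)) := by
  rw [← ringKrullDim_quotient, ← PrimeSpectrum.topologicalKrullDim_eq_ringKrullDim]
  have hc := PrimeSpectrum.isClosedEmbedding_comap_of_surjective (F ⧸ I) (Ideal.Quotient.mk I)
    Ideal.Quotient.mk_surjective
  refine (IsHomeomorph.topologicalKrullDim_eq _ ((hc.isEmbedding.toHomeomorph).trans
    (Homeomorph.setCongr ?_)).isHomeomorph).symm
  rw [range_comap_of_surjective _ _ Ideal.Quotient.mk_surjective, Ideal.mk_ker]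

theorem supportDim_eq_topological {R : Type u} [CommRing R] (p : Ideal R) [p.IsPrime] (S : Type u) [CommRing S]
    [Algebra R S] (N : Type u) [AddCommGroup N] [Module S N] [Module R N] [IsScalarTower R S N]
    [Module.Finite S N] :
    Module.supportDim (p.Fiber S) (FlatCA.fiberMod p S N) =
      topologicalKrullDim (Module.support (p.Fiber S) (FlatCA.fiberMod p S N)) := by
  rw [Module.supportDim, support_fiberMod p S N, topologicalKrullDim_zeroLocus]

end Dim

section Fibre

/-- The trace on the spectrum of the support of the fibre module. -/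
def fibSet {R : Type u} [CommRing R] (p : Ideal R) {S : Type u} [CommRing S] [Algebra R S]
    (N : Type u) [AddCommGroup N] [Module S N] : Set (PrimeSpectrum S) :=
  {P | P ∈ Module.support S N ∧ P.asIdeal.comap (algebraMap R S) = p}

variable {R : Type u} [CommRing R] (p : Ideal R) [p.IsPrime] {S : Type u} [CommRing S] [Algebra R S]
    (N : Type u) [AddCommGroup N] [Module S N] [Module R N] [IsScalarTower R S N] [Module.Finite S N]

attribute [local instance] Algebra.TensorProduct.rightAlgebra in
/-- The support of the fibre module as a subspace of the spectrum. -/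
theorem exists_fibSet_homeomorph :
    ∃ h : fibSet p N ≃ₜ Module.support (p.Fiber S) (FlatCA.fiberMod p S N),
      ∀ P, (h P).1.asIdeal = FlatCA.fiberIdeal p P.1.asIdeal := by
  let e := PrimeSpectrum.preimageHomeomorphFiber R S ⟨p, inferInstance⟩
  have hmem : ∀ P, e P ∈ Module.support (p.Fiber S) (FlatCA.fiberMod p S N) ↔ P.1 ∈ Module.support S N := fun P => by
    refine (MorLib.UnrLocus.support_baseChange_iff (A := S) (B := p.Fiber S) N (e P)).trans ?_
    rw [show PrimeSpectrum.comap (algebraMap S (p.Fiber S)) (e P) = P.1 from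
      congrArg Subtype.val (e.symm_apply_apply P)]
  let t : fibSet p N ≃ₜ {P // e P ∈ Module.support (p.Fiber S) (FlatCA.fiberMod p S N)} :=
    { toFun := fun P => ⟨⟨P.1, PrimeSpectrum.ext P.2.2⟩, (hmem _).mpr P.2.1⟩
      invFun := fun P => ⟨P.1.1, (hmem _).mp P.2, congrArg PrimeSpectrum.asIdeal P.1.2⟩
      left_inv := fun _ => rfl
      right_inv := fun _ => rfl
      continuous_toFun := (continuous_subtype_val.subtype_mk _).subtype_mk _
      continuous_invFun := (continuous_subtype_val.comp continuous_subtype_val).subtype_mk _ }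
  refine ⟨t.trans (e.subtype fun _ => Iff.rfl), fun P => ?_⟩
  rw [eq_fiberIdeal_comap p ((t.trans (e.subtype fun _ => Iff.rfl)) P).1.asIdeal]
  congr 1
  exact congrArg (fun z => z.1.asIdeal) (e.symm_apply_apply ⟨P.1, PrimeSpectrum.ext P.2.2⟩)

variable {R' : Type u} [CommRing R'] [Algebra R R'] (g : R) [IsLocalization.Away g R']
  (p' : Ideal R') [p'.IsPrime] (hp : p'.comap (algebraMap R R') = p)
  {S' : Type u} [CommRing S'] [Algebra R' S'] [Algebra R S'] [Algebra S S'] [IsScalarTower R R' S']
  [IsScalarTower R S S'] (hX : S) [IsLocalization.Away hX S']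
  {N' : Type u} [AddCommGroup N'] [Module S' N'] [Module R' N'] [IsScalarTower R' S' N']
  [Module S N'] [IsScalarTower S S' N'] {f : N →ₗ[S] N'} (hf : IsBaseChange S' f)

include g hp hX hf in
/-- The fibre support of a principal open is open in the fibre support. -/
theorem localDim_and_supportDim_away (q : Ideal S) [q.IsPrime] (hqover : q.LiesOver p) (q' : Ideal S') [q'.IsPrime]
    (hq : q'.comap (algebraMap S S') = q) {n : ℕ}
    (h1 : ∃ (ξ : PrimeSpectrum (p.Fiber S)) (hξ : ξ ∈ Module.support (p.Fiber S) (FlatCA.fiberMod p S N)),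
      ξ.asIdeal = FlatCA.fiberIdeal p q ∧
      FlatMor.localDim (Module.support (p.Fiber S) (FlatCA.fiberMod p S N)) ⟨ξ, hξ⟩ = n) :
    (Module.supportDim (p.Fiber S) (FlatCA.fiberMod p S N) = n →
      Module.supportDim (p'.Fiber S') (FlatCA.fiberMod p' S' N') = n) ∧
    ∃ (ξ : PrimeSpectrum (p'.Fiber S')) (hξ : ξ ∈ Module.support (p'.Fiber S') (FlatCA.fiberMod p' S' N')),
      ξ.asIdeal = FlatCA.fiberIdeal p' q' ∧
      FlatMor.localDim (Module.support (p'.Fiber S') (FlatCA.fiberMod p' S' N')) ⟨ξ, hξ⟩ = n := by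
  haveI : Module.Finite S' N' := Module.Finite.equiv hf.equiv
  obtain ⟨ξ, hξ, hξq, hloc⟩ := h1
  obtain ⟨h, hh⟩ := exists_fibSet_homeomorph (S := S) p N
  obtain ⟨h', hh'⟩ := exists_fibSet_homeomorph (S := S') p' N'
  have hsupp : ∀ P : PrimeSpectrum S', P ∈ Module.support S' N' ↔
      PrimeSpectrum.comap (algebraMap S S') P ∈ Module.support S N := fun P => by
    rw [← hf.equiv.support_eq]
    exact MorLib.UnrLocus.support_baseChange_iff N P
  have hover : ∀ P : PrimeSpectrum S', P.asIdeal.comap (algebraMap R' S') = p' ↔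
      (PrimeSpectrum.comap (algebraMap S S') P).asIdeal.comap (algebraMap R S) = p := fun P => by
    rw [PrimeSpectrum.comap_asIdeal, Ideal.comap_comap, ← IsScalarTower.algebraMap_eq,
      IsScalarTower.algebraMap_eq R R' S', ← Ideal.comap_comap]
    refine ⟨fun h => by rw [h, hp], fun h => ?_⟩
    have h' := h.trans hp.symm
    rw [← IsLocalization.map_comap (Submonoid.powers g) R' (P.asIdeal.comap (algebraMap R' S')), Ideal.under_def, h', ← Ideal.under_def,
      IsLocalization.map_comap (Submonoid.powers g) R']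
  have hemb := PrimeSpectrum.localization_away_isOpenEmbedding S' hX
  let c : fibSet p' N' → fibSet p N := fun P =>
    ⟨PrimeSpectrum.comap (algebraMap S S') P.1, (hsupp _).mp P.2.1, (hover _).mp P.2.2⟩
  have hc : Topology.IsOpenEmbedding c := by
    have := hemb.restrictPreimage (fibSet p N)
    have heq : fibSet p' N' = PrimeSpectrum.comap (algebraMap S S') ⁻¹' fibSet p N :=
      Set.ext fun P => and_congr (hsupp P) (hover P)
    exact this.comp (Homeomorph.setCongr heq).isOpenEmbedding
  let c₂ := h ∘ c ∘ h'.symm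
  have hc₂ : Topology.IsOpenEmbedding c₂ := h.isOpenEmbedding.comp (hc.comp h'.symm.isOpenEmbedding)
  have hP0 : (h.symm ⟨ξ, hξ⟩).1.asIdeal = q := by
    have e1 := hh (h.symm ⟨ξ, hξ⟩)
    rw [h.apply_symm_apply, hξq] at e1
    haveI := (h.symm ⟨ξ, hξ⟩).1.isPrime
    rw [← (exists_prime_fiber p q hqover).2, ← (exists_prime_fiber p (h.symm ⟨ξ, hξ⟩).1.asIdeal
      ⟨(h.symm ⟨ξ, hξ⟩).2.2.symm⟩).2, e1]
  let Q : fibSet p' N' := ⟨⟨q', inferInstance⟩, (hsupp _).mpr (by
      convert (h.symm ⟨ξ, hξ⟩).2.1 using 1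
      exact PrimeSpectrum.ext (hq.trans hP0.symm)), (hover _).mpr (by
      rw [PrimeSpectrum.comap_asIdeal, hq, ← hP0]; exact (h.symm ⟨ξ, hξ⟩).2.2)⟩
  have hcQ : c Q = h.symm ⟨ξ, hξ⟩ := Subtype.ext (PrimeSpectrum.ext (hq.trans hP0.symm))
  have hloc' : FlatMor.localDim _ (h' Q) = (n : WithBot ℕ∞) := by
    rw [← localDim_openEmbedding hc₂ (h' Q), ← hloc]
    congr 1
    simp only [c₂, Function.comp_apply, Homeomorph.symm_apply_apply, hcQ, Homeomorph.apply_symm_apply]
  refine ⟨fun hdim => le_antisymm ?_ ?_, (h' Q).1, (h' Q).2, hh' Q, hloc'⟩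
  · rw [supportDim_eq_topological, ← hdim, supportDim_eq_topological]
    exact hc₂.isInducing.topologicalKrullDim_le
  · rw [supportDim_eq_topological, ← hloc']
    exact H23.TopDim.localDim_le_dim _

end Fibre

end Groth.Agent.DevissBCHx
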