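import Groth.Agent.DevissBCHx.ShrinkComplete

/-!
# Choosing the equations of a standard shrinking of a complete dévissage
-/

set_option linter.style.haveILetI false
set_option backward.isDefEq.respectTransparency false
set_option maxHeartbeats 1000000

universe u

namespace Groth.Agent.DevissBCHx.Shr

/-- Localisation at another element dividing and dividing powers. -/
theorem away_of_dvd_pow' {A : Type u} [CommRing A] (a b : A) {k l : ℕ} (hab : a ∣ b ^ k) (hba : b ∣ a ^ l) :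
    IsLocalization.Away b (Localization.Away a) :=
  away_of_dvd_pow a b hab hba

variable {R S : Type u} [CommRing R] [CommRing S] [Algebra R S]
  {N : Type u} [AddCommGroup N] [Module S N] {p : Ideal R} [p.IsPrime] {q : Ideal S} [q.IsPrime]
  (𝒟 : FlatCA.CompleteDevissage R S N p) (𝒜 : FlatCA.CompleteDevissageAt R S N p q 𝒟)

/-- Propagating equations downwards from the last smooth algebra. -/
theorem exists_equations (w : ∀ i, 𝒟.B i) (hw : ∀ i, i < 𝒟.n → w i ∉ 𝒜.qB i)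
    (hcomp : ∀ i, i + 1 < 𝒟.n → ∃ k : ℕ, algebraMap (𝒟.B i) (𝒟.A (i + 1)) (w i) ∣
      algebraMap (𝒟.B (i + 1)) (𝒟.A (i + 1)) (w (i + 1)) ^ k) :
    ∃ c : ∀ i, 𝒟.B i, c (𝒟.n - 1) = w (𝒟.n - 1) ∧ (∀ i, i < 𝒟.n → c i ∉ 𝒜.qB i ∧ w i ∣ c i) ∧
      ∀ i, i + 1 < 𝒟.n →
        algebraMap (𝒟.B (i + 1)) (𝒟.A (i + 1)) (c (i + 1)) ∣ algebraMap (𝒟.B i) (𝒟.A (i + 1)) (c i) ∧
        ∃ k : ℕ, algebraMap (𝒟.B i) (𝒟.A (i + 1)) (c i) ∣
          algebraMap (𝒟.B (i + 1)) (𝒟.A (i + 1)) (c (i + 1)) ^ k := by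
  classical
  haveI := 𝒜.hqB
  haveI := 𝒜.hqA
  haveI := 𝒜.overA
  suffices h : ∀ k, k < 𝒟.n → ∃ c : ∀ i, 𝒟.B i, c (𝒟.n - 1) = w (𝒟.n - 1) ∧
      (∀ i, 𝒟.n - 1 - k ≤ i → i < 𝒟.n → c i ∉ 𝒜.qB i ∧ w i ∣ c i) ∧
      ∀ i, 𝒟.n - 1 - k ≤ i → i + 1 < 𝒟.n →
        algebraMap (𝒟.B (i + 1)) (𝒟.A (i + 1)) (c (i + 1)) ∣ algebraMap (𝒟.B i) (𝒟.A (i + 1)) (c i) ∧
        ∃ k : ℕ, algebraMap (𝒟.B i) (𝒟.A (i + 1)) (c i) ∣
          algebraMap (𝒟.B (i + 1)) (𝒟.A (i + 1)) (c (i + 1)) ^ k by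
    have := 𝒟.pos
    obtain ⟨c, h1, h2, h3⟩ := h (𝒟.n - 1) (by omega)
    exact ⟨c, h1, fun i hi => h2 i (by omega) hi, fun i hi => h3 i (by omega) hi⟩
  intro k
  induction k with
  | zero =>
    intro _
    refine ⟨w, rfl, fun i _ hi => ⟨hw i hi, dvd_rfl⟩, fun i h hi => ?_⟩
    omega
  | succ k ih =>
    intro hk
    obtain ⟨c, hlast, hc, hstep⟩ := ih (by omega)
    obtain ⟨m, hm⟩ : ∃ m, m = 𝒟.n - 1 - (k + 1) := ⟨_, rfl⟩
    have hm1 : m + 1 < 𝒟.n := by omega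
    obtain ⟨hc1, hwc1⟩ := hc (m + 1) (by omega) hm1
    obtain ⟨s, hs⟩ := 𝒟.surjBA' m hm1 (algebraMap (𝒟.B (m + 1)) (𝒟.A (m + 1)) (c (m + 1)))
    have hsq : s ∉ 𝒜.qB m := fun h => hc1 (by
      rw [Ideal.over_def (𝒜.qA (m + 1)) (𝒜.qB (m + 1)), Ideal.under_def, Ideal.mem_comap, ← hs]
      rw [← 𝒜.qStep m hm1] at h
      exact h)
    refine ⟨Function.update c m (s * w m), ?_, fun i hi hin => ?_, fun i hi hin => ?_⟩
    · rw [Function.update_of_ne (by omega)]; exact hlast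
    · rcases eq_or_ne i m with rfl | hne
      · rw [Function.update_self]
        exact ⟨fun h => (Ideal.IsPrime.mem_or_mem inferInstance h).elim hsq (hw i hin), dvd_mul_left _ _⟩
      · rw [Function.update_of_ne hne]
        exact hc i (by omega) hin
    · rw [Function.update_of_ne (show i + 1 ≠ m by omega)]
      rcases eq_or_ne i m with rfl | hne
      · rw [Function.update_self, map_mul, hs]
        obtain ⟨j, hj⟩ := hcomp i hm1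
        refine ⟨dvd_mul_right _ _, j + 1, ?_⟩
        rw [pow_succ']
        exact mul_dvd_mul_left _ (hj.trans (pow_dvd_pow_of_dvd ((algebraMap _ _).map_dvd hwc1) j))
      · rw [Function.update_of_ne hne]
        exact hstep i (by omega) hin

/-- Choosing compatible elements of the smooth algebras below a given element of `S`. -/
theorem exists_below (u : S) (hu : u ∉ q) :
    ∃ w : ∀ i, 𝒟.B i, (∀ i, i < 𝒟.n → w i ∉ 𝒜.qB i) ∧
      (∃ k : ℕ, algebraMap S (𝒟.A 0) u ∣ algebraMap (𝒟.B 0) (𝒟.A 0) (w 0) ^ k) ∧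
      ∀ i, i + 1 < 𝒟.n → ∃ k : ℕ, algebraMap (𝒟.B i) (𝒟.A (i + 1)) (w i) ∣
        algebraMap (𝒟.B (i + 1)) (𝒟.A (i + 1)) (w (i + 1)) ^ k := by
  classical
  haveI := 𝒜.hqB
  haveI := 𝒜.hqA
  haveI := 𝒜.overA
  suffices h : ∀ m, m < 𝒟.n → ∃ w : ∀ i, 𝒟.B i, (∀ i, i ≤ m → w i ∉ 𝒜.qB i) ∧
      (∃ k : ℕ, algebraMap S (𝒟.A 0) u ∣ algebraMap (𝒟.B 0) (𝒟.A 0) (w 0) ^ k) ∧
      ∀ i, i + 1 ≤ m → ∃ k : ℕ, algebraMap (𝒟.B i) (𝒟.A (i + 1)) (w i) ∣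
        algebraMap (𝒟.B (i + 1)) (𝒟.A (i + 1)) (w (i + 1)) ^ k by
    have := 𝒟.pos
    obtain ⟨w, h1, h2, h3⟩ := h (𝒟.n - 1) (by omega)
    exact ⟨w, fun i hi => h1 i (by omega), h2, fun i hi => h3 i (by omega)⟩
  intro m
  induction m with
  | zero =>
    intro h0
    haveI := 𝒟.finiteBA 0 h0
    have hu0 : algebraMap S (𝒟.A 0) u ∉ 𝒜.qA 0 := fun h => hu (by rw [← 𝒜.q0]; exact h)
    obtain ⟨w₀, hw₀, k, hk⟩ := exists_dvd_pow_of_unique (B := 𝒟.B 0) (𝒜.qB 0) (𝒜.qA 0) (𝒜.uniq 0 h0) _ hu0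
    refine ⟨Function.update 1 0 w₀, fun i hi => ?_, ⟨k, ?_⟩, fun i hi => ?_⟩
    · obtain rfl : i = 0 := by omega
      rwa [Function.update_self]
    · rwa [Function.update_self]
    · omega
  | succ m ih =>
    intro hm
    obtain ⟨w, hw, h0, hstep⟩ := ih (by omega)
    haveI := 𝒟.finiteBA (m + 1) hm
    have hA : algebraMap (𝒟.B m) (𝒟.A (m + 1)) (w m) ∉ 𝒜.qA (m + 1) := fun h => hw m le_rfl (by
      rw [← 𝒜.qStep m hm]; exact h)
    obtain ⟨w', hw', k, hk⟩ := exists_dvd_pow_of_unique (B := 𝒟.B (m + 1)) (𝒜.qB (m + 1)) (𝒜.qA (m + 1))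
      (𝒜.uniq (m + 1) hm) _ hA
    refine ⟨Function.update w (m + 1) w', fun i hi => ?_, ?_, fun i hi => ?_⟩
    · rcases eq_or_ne i (m + 1) with rfl | hne
      · rwa [Function.update_self]
      · rw [Function.update_of_ne hne]; exact hw i (by omega)
    · rwa [Function.update_of_ne (by omega)]
    · rw [Function.update_of_ne (show i ≠ m + 1 by omega)]
      rcases eq_or_ne i m with rfl | hne
      · rw [Function.update_self]; exact ⟨k, hk⟩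
      · rw [Function.update_of_ne (show i + 1 ≠ m + 1 by omega)]; exact hstep i (by omega)

/-- The inputs of a standard shrinking from compatible equations. -/
theorem exists_inputs (c : ∀ i, 𝒟.B i) (hc : ∀ i, i < 𝒟.n → c i ∉ 𝒜.qB i)
    (hstep : ∀ i, i + 1 < 𝒟.n →
        algebraMap (𝒟.B (i + 1)) (𝒟.A (i + 1)) (c (i + 1)) ∣ algebraMap (𝒟.B i) (𝒟.A (i + 1)) (c i) ∧
        ∃ k : ℕ, algebraMap (𝒟.B i) (𝒟.A (i + 1)) (c i) ∣
          algebraMap (𝒟.B (i + 1)) (𝒟.A (i + 1)) (c (i + 1)) ^ k)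
    (u : S) (hu : ∃ k : ℕ, algebraMap S (𝒟.A 0) u ∣ algebraMap (𝒟.B 0) (𝒟.A 0) (c 0) ^ k) :
    ∃ (g : R) (hX : S), g ∉ p ∧ hX ∉ q ∧ algebraMap R S g ∣ hX ∧ u ∣ hX ∧
      (∀ i, i < 𝒟.n → bEl 𝒟 g c i ∉ 𝒜.qB i) ∧
      (∀ i, i < 𝒟.n → ∀ t : PrimeSpectrum R, g ∉ t.asIdeal →
        ∃ P : PrimeSpectrum (𝒟.B i), bEl 𝒟 g c i ∉ P.asIdeal ∧
          P.asIdeal.comap (algebraMap R (𝒟.B i)) = t.asIdeal) ∧
      (∀ i, i + 1 < 𝒟.n → IsLocalization.Away (algebraMap (𝒟.B i) (𝒟.A (i + 1)) (bEl 𝒟 g c i))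
        (Localization.Away (aEl 𝒟 g c (i + 1)))) ∧
      IsLocalization.Away (algebraMap S (𝒟.A 0) hX) (Localization.Away (aEl 𝒟 g c 0)) := by
  classical
  haveI := 𝒜.hqB
  haveI := 𝒜.hqA
  haveI := 𝒜.overA
  haveI := 𝒜.overB
  have hg' : ∀ i : Fin 𝒟.n, ∃ g ∉ p, ∀ t : PrimeSpectrum R, g ∉ t.asIdeal →
      ∃ P : PrimeSpectrum (𝒟.B i), c i ∉ P.asIdeal ∧ P.asIdeal.comap (algebraMap R (𝒟.B i)) = t.asIdeal := by
    intro i
    haveI := 𝒟.smooth i i.2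
    obtain ⟨g, hg, himg⟩ := exists_image_nhd (R := R) (c i) (𝒜.qB i) (hc i i.2)
    exact ⟨g, fun h => hg (by rwa [Ideal.over_def (𝒜.qB i) p] at h), himg⟩
  choose gi hgi himg using hg'
  set g := ∏ i, gi i with hgdef
  have hg : g ∉ p := fun h => by
    obtain ⟨i, -, hi⟩ := Ideal.IsPrime.prod_mem_iff.mp h
    exact hgi i hi
  have hb : ∀ i, i < 𝒟.n → bEl 𝒟 g c i ∉ 𝒜.qB i := fun i hi h =>
    (Ideal.IsPrime.mem_or_mem inferInstance h).elim (hc i hi) fun hm => hg (by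
      rwa [Ideal.over_def (𝒜.qB i) p])
  have h0n : 0 < 𝒟.n := 𝒟.pos
  obtain ⟨s, hs⟩ := 𝒟.surjSA (algebraMap (𝒟.B 0) (𝒟.A 0) (c 0))
  obtain ⟨k, hk⟩ := hu
  have hga : algebraMap S (𝒟.A 0) (algebraMap R S g) = algebraMap (𝒟.B 0) (𝒟.A 0) (algebraMap R (𝒟.B 0) g) := by
    rw [← IsScalarTower.algebraMap_apply, ← IsScalarTower.algebraMap_apply]
  have hd1 : algebraMap S (𝒟.A 0) (u * s * algebraMap R S g) ∣ aEl 𝒟 g c 0 ^ (k + 1) := by
    rw [aEl, bEl, map_mul, map_mul, hs, hga, map_mul, mul_pow, pow_succ]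
    exact mul_dvd_mul (mul_dvd_mul_right hk _) (dvd_pow_self _ k.succ_ne_zero)
  have hd2 : aEl 𝒟 g c 0 ∣ algebraMap S (𝒟.A 0) (u * s * algebraMap R S g) ^ 1 := by
    rw [aEl, bEl, map_mul, map_mul, map_mul, hs, hga, pow_one, mul_assoc]
    exact dvd_mul_left _ _
  have haq : aEl 𝒟 g c 0 ∉ 𝒜.qA 0 := fun h => hb 0 h0n ((Ideal.mem_of_liesOver _ _ _).mpr h)
  refine ⟨g, u * s * algebraMap R S g, hg, fun h => haq ?_, dvd_mul_left _ _,
    (dvd_mul_right u s).mul_right _, hb, fun i hi t ht => ?_, fun i hi => ?_, away_of_dvd_pow' _ _ hd2 hd1⟩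
  · rw [← 𝒜.q0] at h
    exact Ideal.IsPrime.mem_of_pow_mem inferInstance (k + 1) (Ideal.mem_of_dvd _ hd1 h)
  · obtain ⟨P, hP, hPt⟩ := himg ⟨i, hi⟩ t fun h => ht
      (Ideal.mem_of_dvd _ (Finset.dvd_prod_of_mem gi (Finset.mem_univ _)) h)
    exact ⟨P, fun h => (P.isPrime.mem_or_mem h).elim hP fun hm => ht (hPt.le hm), hPt⟩
  · obtain ⟨h1, k', h2⟩ := hstep i hi
    have e1 : algebraMap (𝒟.B i) (𝒟.A (i + 1)) (algebraMap R (𝒟.B i) g) =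
        algebraMap (𝒟.B (i + 1)) (𝒟.A (i + 1)) (algebraMap R (𝒟.B (i + 1)) g) := by
      rw [← IsScalarTower.algebraMap_apply, ← IsScalarTower.algebraMap_apply]
    refine away_of_dvd_pow' _ _ (k := 1) (l := k' + 1) ?_ ?_
    · rw [pow_one, aEl, bEl, map_mul, bEl, map_mul, e1]
      exact mul_dvd_mul_right h1 _
    · rw [aEl, bEl, map_mul, bEl, map_mul, e1, mul_pow, pow_succ]
      exact mul_dvd_mul (h2.trans (dvd_mul_right _ _)) (dvd_pow_self _ k'.succ_ne_zero)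

end Groth.Agent.DevissBCHx.Shr
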