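import Groth.Agent.DevissBCHx.ShrinkData
import Groth.Agent.DevissBCHx.Generic
import Groth.Agent.DevissBCHx.Coker

/-!
# Standard shrinkings of a complete dévissage
-/

set_option linter.style.haveILetI false
set_option backward.isDefEq.respectTransparency false
set_option maxHeartbeats 4000000
set_option synthInstance.maxHeartbeats 400000

universe u

open TensorProduct

namespace Groth.Agent.DevissBCHx.Shr

/-- A standard shrinking from its equations. -/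
theorem exists_shrink_complete
    (R S : Type u) [CommRing R] [CommRing S] [Algebra R S]
    (N : Type u) [AddCommGroup N] [Module S N]
    (p : Ideal R) [p.IsPrime] (q : Ideal S) [q.IsPrime] (𝒟 : FlatCA.CompleteDevissage R S N p)
    (𝒜 : FlatCA.CompleteDevissageAt R S N p q 𝒟)
    (g : R) (hg : g ∉ p) (hX : S) (hXq : hX ∉ q) (hgX : algebraMap R S g ∣ hX)
    (c : ∀ i, 𝒟.B i)
    (hb : ∀ i, i < 𝒟.n → bEl 𝒟 g c i ∉ 𝒜.qB i)
    (himg : ∀ i, i < 𝒟.n → ∀ t : PrimeSpectrum R, g ∉ t.asIdeal →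
      ∃ P : PrimeSpectrum (𝒟.B i), bEl 𝒟 g c i ∉ P.asIdeal ∧
        P.asIdeal.comap (algebraMap R (𝒟.B i)) = t.asIdeal)
    (hnext : ∀ i, i + 1 < 𝒟.n →
      IsLocalization.Away (algebraMap (𝒟.B i) (𝒟.A (i + 1)) (bEl 𝒟 g c i))
        (Localization.Away (aEl 𝒟 g c (i + 1))))
    (h0 : IsLocalization.Away (algebraMap S (𝒟.A 0) hX) (Localization.Away (aEl 𝒟 g c 0))) :
    ∃ (_ : Algebra (Localization.Away g) (Localization.Away hX)) (_ : IsScalarTower R (Localization.Away g) (Localization.Away hX))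
        (_ : Module (Localization.Away g) (LocalizedModule (Submonoid.powers hX) N)) (_ : IsScalarTower (Localization.Away g) (Localization.Away hX) (LocalizedModule (Submonoid.powers hX) N))
        (_ : (Ideal.map (algebraMap R (Localization.Away g)) p).IsPrime) (_ : (Ideal.map (algebraMap S (Localization.Away hX)) q).IsPrime)
        (𝒟' : FlatCA.CompleteDevissage (Localization.Away g) (Localization.Away hX) (LocalizedModule (Submonoid.powers hX) N) (Ideal.map (algebraMap R (Localization.Away g)) p))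
        (𝒜' : FlatCA.CompleteDevissageAt (Localization.Away g) (Localization.Away hX) (LocalizedModule (Submonoid.powers hX) N) (Ideal.map (algebraMap R (Localization.Away g)) p) (Ideal.map (algebraMap S (Localization.Away hX)) q) 𝒟')
      (aA : ∀ i : Fin 𝒟.n, Algebra (𝒟.A i) (𝒟'.A i)) (rA : ∀ i : Fin 𝒟.n, Algebra R (𝒟'.A i))
      (_t1 : ∀ i : Fin 𝒟.n, IsScalarTower R (Localization.Away g) (𝒟'.A i)) (_t2 : ∀ i : Fin 𝒟.n, IsScalarTower R (𝒟.A i) (𝒟'.A i))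
      (aB : ∀ i : Fin 𝒟.n, Algebra (𝒟.B i) (𝒟'.B i)) (rB : ∀ i : Fin 𝒟.n, Algebra R (𝒟'.B i))
      (_t3 : ∀ i : Fin 𝒟.n, IsScalarTower R (Localization.Away g) (𝒟'.B i)) (_t4 : ∀ i : Fin 𝒟.n, IsScalarTower R (𝒟.B i) (𝒟'.B i))
      (bA : ∀ i : Fin 𝒟.n, Algebra (𝒟.B i) (𝒟'.A i)) (_t5 : ∀ i : Fin 𝒟.n, IsScalarTower (𝒟.B i) (𝒟.A i) (𝒟'.A i))
      (_t6 : ∀ i : Fin 𝒟.n, IsScalarTower (𝒟.B i) (𝒟'.B i) (𝒟'.A i))
      (bA' : ∀ i : Fin 𝒟.n, Algebra (𝒟.B i) (𝒟'.A (i + 1)))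
      (_t7 : ∀ i : Fin 𝒟.n, IsScalarTower (𝒟.B i) (𝒟'.B i) (𝒟'.A (i + 1)))
      (sA : Algebra S (𝒟'.A 0)) (_t8 : IsScalarTower S (Localization.Away hX) (𝒟'.A 0))
      (mA : ∀ i : Fin 𝒟.n, Module (𝒟.A i) (𝒟'.M i)) (_t9 : ∀ i : Fin 𝒟.n, IsScalarTower (𝒟.A i) (𝒟'.A i) (𝒟'.M i))
      (gM : ∀ i : Fin 𝒟.n, 𝒟.M i →ₗ[𝒟.A i] 𝒟'.M i),
        𝒟'.n = 𝒟.n ∧ 𝒟'.r = 𝒟.r ∧ 𝒜'.d = 𝒜.d ∧
        (letI := aA ⟨0, 𝒟.pos⟩; IsScalarTower S (𝒟.A 0) (𝒟'.A 0)) ∧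
      (∀ x : N, 𝒟'.isoN (LocalizedModule.mkLinearMap (Submonoid.powers hX) N x) = gM ⟨0, 𝒟.pos⟩ (𝒟.isoN x)) ∧
      (∀ (i : Fin 𝒟.n) (h : (i : ℕ) + 1 < 𝒟.n),
        letI := aA ⟨i + 1, h⟩; IsScalarTower (𝒟.B i) (𝒟.A (i + 1)) (𝒟'.A (i + 1))) ∧
        ∀ i : Fin 𝒟.n,
          aEl 𝒟 g c i ∉ 𝒜.qA i ∧ bEl 𝒟 g c i ∉ 𝒜.qB i ∧
          IsLocalization.Away (aEl 𝒟 g c i) (𝒟'.A i) ∧ IsLocalization.Away (bEl 𝒟 g c i) (𝒟'.B i) ∧
          IsLocalizedModule (Submonoid.powers (aEl 𝒟 g c i)) (gM i) ∧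
          (𝒜'.qA i).LiesOver (𝒜.qA i) ∧ (𝒜'.qB i).LiesOver (𝒜.qB i) ∧
          LinearMap.range (𝒟'.α i) =
            Submodule.span (𝒟'.B i) ((gM i) '' (LinearMap.range (𝒟.α i) : Set (𝒟.M i))) := by
  classical
  haveI := 𝒜.hqA
  haveI := 𝒜.hqB
  haveI := 𝒜.overA
  haveI := 𝒜.overB
  let R' := Localization.Away g
  let S' := Localization.Away hX
  let N' := LocalizedModule (Submonoid.powers hX) N
  -- the base
  have uS : IsUnit (algebraMap R S' g) := by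
    rw [IsScalarTower.algebraMap_apply R S S']; exact isUnit_away_of_dvd hgX
  letI aRS : Algebra R' S' := (IsLocalization.Away.lift g uS).toAlgebra
  haveI tRS : IsScalarTower R R' S' := IsScalarTower.of_algebraMap_eq fun r =>
    (IsLocalization.Away.lift_eq g uS r).symm
  letI mRN : Module R' N' := Module.compHom N' (algebraMap R' S')
  haveI tRN : IsScalarTower R' S' N' := IsScalarTower.of_algebraMap_smul fun _ _ => rfl
  obtain ⟨hp', hp'c⟩ := isPrime_map_away (A' := R') g p hg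
  obtain ⟨hq', hq'c⟩ := isPrime_map_away (A' := S') hX q hXq
  haveI := hp'
  haveI := hq'
  let p' : Ideal R' := p.map (algebraMap R R')
  -- units
  have hu : ∀ i, i + 1 < 𝒟.n → IsUnit (algebraMap (𝒟.A (i + 1)) (Localization.Away (aEl 𝒟 g c (i + 1)))
      (algebraMap (𝒟.B i) (𝒟.A (i + 1)) (bEl 𝒟 g c i))) := fun i hi => by
    haveI := hnext i hi
    exact IsLocalization.Away.algebraMap_isUnit _
  letI aBA : ∀ i, Algebra (BI 𝒟 g c i) (AI 𝒟 g c i) := fun i => (bToA 𝒟 g c i).toRingHom.toAlgebra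
  letI aBA' : ∀ i, Algebra (BI 𝒟 g c i) (AI 𝒟 g c (i + 1)) := fun i => (bToA' 𝒟 g c hu i).toRingHom.toAlgebra
  haveI tRBA : ∀ i, IsScalarTower R' (BI 𝒟 g c i) (AI 𝒟 g c i) := fun i =>
    IsScalarTower.of_algebraMap_eq fun r => ((bToA 𝒟 g c i).commutes r).symm
  haveI tRBA' : ∀ i, IsScalarTower R' (BI 𝒟 g c i) (AI 𝒟 g c (i + 1)) := fun i =>
    IsScalarTower.of_algebraMap_eq fun r => ((bToA' 𝒟 g c hu i).commutes r).symm
  letI mBM : ∀ i, Module (BI 𝒟 g c i) (MI 𝒟 g c i) := fun i => Module.compHom _ (bToA 𝒟 g c i).toRingHom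
  letI mB'M : ∀ i, Module (BI 𝒟 g c i) (MI 𝒟 g c (i + 1)) := fun i => Module.compHom _ (bToA' 𝒟 g c hu i).toRingHom
  haveI tBAM : ∀ i, IsScalarTower (BI 𝒟 g c i) (AI 𝒟 g c i) (MI 𝒟 g c i) := fun i =>
    IsScalarTower.of_algebraMap_smul fun _ _ => rfl
  haveI tB'AM : ∀ i, IsScalarTower (BI 𝒟 g c i) (AI 𝒟 g c (i + 1)) (MI 𝒟 g c (i + 1)) := fun i =>
    IsScalarTower.of_algebraMap_smul fun _ _ => rfl
  letI mRM : ∀ i, Module R' (MI 𝒟 g c i) := fun i => Module.compHom _ (algebraMap R' (AI 𝒟 g c i))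
  haveI tRBM : ∀ i, IsScalarTower R' (BI 𝒟 g c i) (MI 𝒟 g c i) := fun i =>
    IsScalarTower.of_algebraMap_smul fun r x => by
      show bToA 𝒟 g c i (algebraMap R' (BI 𝒟 g c i) r) • x = algebraMap R' (AI 𝒟 g c i) r • x
      rw [(bToA 𝒟 g c i).commutes]
  -- the algebras at the steps
  letI aB : ∀ i : Fin 𝒟.n, Algebra (𝒟.B i) (BI 𝒟 g c i) := fun i => (bInc 𝒟 g c i).toAlgebra
  letI aA : ∀ i : Fin 𝒟.n, Algebra (𝒟.A i) (AI 𝒟 g c i) := fun i => (aInc 𝒟 g c i).toAlgebra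
  haveI t4 : ∀ i : Fin 𝒟.n, IsScalarTower R (𝒟.B i) (BI 𝒟 g c i) := fun i =>
    IsScalarTower.of_algebraMap_eq fun r => (algebraMap_bInc 𝒟 g c i r).symm
  haveI t2 : ∀ i : Fin 𝒟.n, IsScalarTower R (𝒟.A i) (AI 𝒟 g c i) := fun i =>
    IsScalarTower.of_algebraMap_eq fun r => (algebraMap_aInc 𝒟 g c i r).symm
  haveI hlB : ∀ i : Fin 𝒟.n, IsLocalization.Away (bEl 𝒟 g c i) (BI 𝒟 g c i) := fun i => away_bInc 𝒟 g c i
  haveI hlA : ∀ i : Fin 𝒟.n, IsLocalization.Away (aEl 𝒟 g c i) (AI 𝒟 g c i) := fun i => away_aInc 𝒟 g c i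
  letI bA : ∀ i : Fin 𝒟.n, Algebra (𝒟.B i) (AI 𝒟 g c i) := fun i =>
    ((algebraMap (𝒟.A i) (AI 𝒟 g c i)).comp (algebraMap (𝒟.B i) (𝒟.A i))).toAlgebra
  haveI t5 : ∀ i : Fin 𝒟.n, IsScalarTower (𝒟.B i) (𝒟.A i) (AI 𝒟 g c i) := fun i =>
    IsScalarTower.of_algebraMap_eq fun _ => rfl
  haveI t6 : ∀ i : Fin 𝒟.n, IsScalarTower (𝒟.B i) (BI 𝒟 g c i) (AI 𝒟 g c i) := fun i =>
    IsScalarTower.of_algebraMap_eq fun b => (bToA_bInc 𝒟 g c i b).symm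
  letI bA' : ∀ i : Fin 𝒟.n, Algebra (𝒟.B i) (AI 𝒟 g c (i + 1)) := fun i =>
    ((algebraMap (BI 𝒟 g c i) (AI 𝒟 g c (i + 1))).comp (algebraMap (𝒟.B i) (BI 𝒟 g c i))).toAlgebra
  haveI t7 : ∀ i : Fin 𝒟.n, IsScalarTower (𝒟.B i) (BI 𝒟 g c i) (AI 𝒟 g c (i + 1)) := fun i =>
    IsScalarTower.of_algebraMap_eq fun _ => rfl
  have t7' : ∀ (i : Fin 𝒟.n) (hi : (i : ℕ) + 1 < 𝒟.n),
      letI := aA ⟨i + 1, hi⟩
      IsScalarTower (𝒟.B i) (𝒟.A (i + 1)) (AI 𝒟 g c (i + 1)) := fun i hi =>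
    letI := aA ⟨i + 1, hi⟩
    IsScalarTower.of_algebraMap_eq fun b => bToA'_bInc 𝒟 g c hu i hi b
  -- the map from `S'`
  letI aA0 : Algebra (𝒟.A 0) (AI 𝒟 g c 0) := aA ⟨0, 𝒟.pos⟩
  haveI hlA0 : IsLocalization.Away (aEl 𝒟 g c 0) (AI 𝒟 g c 0) := hlA ⟨0, 𝒟.pos⟩
  haveI : IsScalarTower R (𝒟.A 0) (AI 𝒟 g c 0) := t2 ⟨0, 𝒟.pos⟩
  haveI hlX : IsLocalization.Away (algebraMap S (𝒟.A 0) hX) (AI 𝒟 g c 0) := by
    haveI := h0
    exact IsLocalization.isLocalization_of_algEquiv (Submonoid.powers (algebraMap S (𝒟.A 0) hX))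
      (IsLocalization.algEquiv (Submonoid.powers (aEl 𝒟 g c 0)) (Localization.Away (aEl 𝒟 g c 0)) (AI 𝒟 g c 0))
  letI sA : Algebra S (AI 𝒟 g c 0) := ((algebraMap (𝒟.A 0) (AI 𝒟 g c 0)).comp (algebraMap S (𝒟.A 0))).toAlgebra
  haveI t0 : IsScalarTower S (𝒟.A 0) (AI 𝒟 g c 0) := IsScalarTower.of_algebraMap_eq fun _ => rfl
  have uX : IsUnit (algebraMap S (AI 𝒟 g c 0) hX) := by
    rw [IsScalarTower.algebraMap_apply S (𝒟.A 0)]
    exact IsLocalization.Away.algebraMap_isUnit _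
  letI aS : Algebra S' (AI 𝒟 g c 0) := (IsLocalization.Away.lift hX uX).toAlgebra
  haveI t8 : IsScalarTower S S' (AI 𝒟 g c 0) := IsScalarTower.of_algebraMap_eq fun s =>
    (IsLocalization.Away.lift_eq hX uX s).symm
  haveI tRSA : IsScalarTower R' S' (AI 𝒟 g c 0) := IsScalarTower.of_algebraMap_eq' (IsLocalization.ringHom_ext
    (Submonoid.powers g) (RingHom.ext fun r => by
      simp only [RingHom.comp_apply, ← IsScalarTower.algebraMap_apply R R' S',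
        ← IsScalarTower.algebraMap_apply R R' (AI 𝒟 g c 0)]
      rw [IsScalarTower.algebraMap_apply R S S', ← IsScalarTower.algebraMap_apply S S' (AI 𝒟 g c 0),
        IsScalarTower.algebraMap_apply S (𝒟.A 0) (AI 𝒟 g c 0), ← IsScalarTower.algebraMap_apply R S (𝒟.A 0),
        ← IsScalarTower.algebraMap_apply R (𝒟.A 0) (AI 𝒟 g c 0)]))
  -- modules over the rings of the dévissage
  letI mA : ∀ i : Fin 𝒟.n, Module (𝒟.A i) (MI 𝒟 g c i) := fun i => inferInstance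
  haveI t9 : ∀ i : Fin 𝒟.n, IsScalarTower (𝒟.A i) (AI 𝒟 g c i) (MI 𝒟 g c i) := fun i =>
    IsScalarTower.of_algebraMap_smul fun a x => funext fun h => by
      show algebraMap (𝒟.A i) (Localization.Away (aEl 𝒟 g c i)) a • x h = a • x h
      rw [algebraMap_smul]
  let gM : ∀ i, 𝒟.M i →ₗ[𝒟.A i] MI 𝒟 g c i := fun i =>
    LinearMap.pi fun _ => LocalizedModule.mkLinearMap (Submonoid.powers (aEl 𝒟 g c i)) (𝒟.M i)
  have hgloc : ∀ i : Fin 𝒟.n, IsLocalizedModule (Submonoid.powers (aEl 𝒟 g c i)) (gM i) := fun i => by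
    haveI : Unique (PLift ((i : ℕ) < 𝒟.n)) := { default := ⟨i.2⟩, uniq := fun _ => rfl }
    exact IsLocalizedModule.of_linearEquiv (Submonoid.powers (aEl 𝒟 g c i)) (LocalizedModule.mkLinearMap (Submonoid.powers (aEl 𝒟 g c i)) (𝒟.M i))
      (LinearEquiv.funUnique (PLift ((i : ℕ) < 𝒟.n)) (𝒟.A i) _).symm
  have hg₁ : ∀ i : Fin 𝒟.n, IsBaseChange (AI 𝒟 g c i) (gM i) := fun i =>
    haveI := hgloc i
    IsLocalizedModule.isBaseChange (Submonoid.powers (aEl 𝒟 g c i)) _ _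
  haveI : IsScalarTower S (𝒟.A 0) (MI 𝒟 g c 0) := inferInstance
  letI mSM : Module S' (MI 𝒟 g c 0) := Module.compHom _ (algebraMap S' (AI 𝒟 g c 0))
  haveI tSAM : IsScalarTower S' (AI 𝒟 g c 0) (MI 𝒟 g c 0) := IsScalarTower.of_algebraMap_smul fun _ _ => rfl
  haveI : IsScalarTower (𝒟.A 0) (AI 𝒟 g c 0) (MI 𝒟 g c 0) := t9 ⟨0, 𝒟.pos⟩
  haveI : IsScalarTower S S' (MI 𝒟 g c 0) := IsScalarTower.of_algebraMap_smul fun s x => by
    show algebraMap S' (AI 𝒟 g c 0) (algebraMap S S' s) • x = s • x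
    rw [← IsScalarTower.algebraMap_apply, IsScalarTower.algebraMap_apply S (𝒟.A 0), algebraMap_smul,
      algebraMap_smul]
  haveI poS : Algebra.IsPushout S (𝒟.A 0) S' (AI 𝒟 g c 0) := isPushout_away hX
  haveI poBA : ∀ i : Fin 𝒟.n, Algebra.IsPushout (𝒟.B i) (𝒟.A i) (BI 𝒟 g c i) (AI 𝒟 g c i) := fun i =>
    isPushout_away (bEl 𝒟 g c i)
  haveI : ∀ i : Fin 𝒟.n, IsScalarTower (𝒟.B i) (𝒟.A i) (MI 𝒟 g c i) := fun i => inferInstance
  haveI : ∀ i : Fin 𝒟.n, IsScalarTower (𝒟.B i) (BI 𝒟 g c i) (MI 𝒟 g c i) := fun i =>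
    IsScalarTower.of_algebraMap_smul fun b x => by
      show bToA 𝒟 g c i (bInc 𝒟 g c i b) • x = b • x
      rw [bToA_bInc, ← algebraMap_smul (𝒟.A i) b x]
      exact algebraMap_smul (AI 𝒟 g c i) (algebraMap (𝒟.B i) (𝒟.A i) b) x
  haveI : ∀ i : Fin 𝒟.n, IsScalarTower (𝒟.B i) (BI 𝒟 g c i) (MI 𝒟 g c (i + 1)) := fun i =>
    IsScalarTower.of_algebraMap_smul fun b x => funext fun h => by
      show bsToAs' 𝒟 g c hu i h.down (algebraMap (𝒟.B i) _ b) • x h = b • x h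
      rw [bsToAs'_algebraMap, algebraMap_smul, algebraMap_smul]
  have hgB : ∀ i : Fin 𝒟.n, IsBaseChange (BI 𝒟 g c i) ((gM i).restrictScalars (𝒟.B i)) := fun i =>
    FlatPureHx.isBaseChange_of_isPushout (A := 𝒟.B i) (B := 𝒟.A i) (A' := BI 𝒟 g c i) (B' := AI 𝒟 g c i) (hg₁ i)
  have hgS : IsBaseChange S' ((gM 0).restrictScalars S) :=
    FlatPureHx.isBaseChange_of_isPushout (A := S) (B := 𝒟.A 0) (A' := S') (B' := AI 𝒟 g c 0) (hg₁ ⟨0, 𝒟.pos⟩)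
  have hnextpo : ∀ (i : Fin 𝒟.n) (hi : (i : ℕ) + 1 < 𝒟.n),
      letI := aA ⟨i + 1, hi⟩
      haveI := t7' i hi
      Algebra.IsPushout (𝒟.B i) (𝒟.A (i + 1)) (BI 𝒟 g c i) (AI 𝒟 g c (i + 1)) := fun i hi => by
    letI := aA ⟨i + 1, hi⟩
    haveI := t7' i hi
    haveI := hnext i hi
    haveI : IsLocalization.Away (aEl 𝒟 g c (i + 1)) (AI 𝒟 g c (i + 1)) := hlA ⟨i + 1, hi⟩
    haveI : IsLocalization.Away (algebraMap (𝒟.B i) (𝒟.A (i + 1)) (bEl 𝒟 g c i)) (AI 𝒟 g c (i + 1)) :=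
      IsLocalization.isLocalization_of_algEquiv (Submonoid.powers _)
        (IsLocalization.algEquiv (Submonoid.powers (aEl 𝒟 g c (i + 1))) (Localization.Away (aEl 𝒟 g c (i + 1)))
          (AI 𝒟 g c (i + 1)))
    exact isPushout_away (bEl 𝒟 g c i)
  let α' : ∀ i, (Fin (𝒟.r i) → BI 𝒟 g c i) →ₗ[BI 𝒟 g c i] MI 𝒟 g c i := fun i =>
    if hi : i < 𝒟.n then bcAlpha (B' := BI 𝒟 g c i) ((gM i).restrictScalars (𝒟.B (Fin.val ⟨i, hi⟩))) (𝒟.α i) else 0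
  have hα' : ∀ i : Fin 𝒟.n, α' i = bcAlpha (B' := BI 𝒟 g c i) ((gM i).restrictScalars (𝒟.B i)) (𝒟.α i) :=
    fun i => dif_pos i.2
  have hsm : ∀ i : Fin 𝒟.n, Algebra.Smooth R' (BI 𝒟 g c i) := fun i =>
    haveI := 𝒟.smooth i i.2
    smooth_away (R := R) (B := 𝒟.B i) g (bEl 𝒟 g c i)
  have hirr : ∀ i : Fin 𝒟.n, FlatCA.GeomIrredFibres R' (BI 𝒟 g c i) := fun i =>
    geomIrredFibres_away (R := R) (B := 𝒟.B i) g (bEl 𝒟 g c i) (𝒟.geomIrred i i.2) (himg i i.2)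
  have hbase : ∀ i, ¬ i < 𝒟.n → ∀ z : BI 𝒟 g c i, ∃ r, algebraMap R' (BI 𝒟 g c i) r = z := fun i hi z =>
    haveI : IsEmpty (PLift (i < 𝒟.n)) := ⟨fun h => hi h.down⟩
    ⟨z.2 ⟨hi⟩, Prod.ext (funext isEmptyElim) (funext fun _ => rfl)⟩
  have hprime : ∀ i, (p'.map (algebraMap R' (BI 𝒟 g c i))).IsPrime := fun i => by
    rcases Decidable.em (i < 𝒟.n) with hi | hi
    · haveI := hsm ⟨i, hi⟩
      exact isPrime_map (hirr ⟨i, hi⟩) p'
    · let e : R' ≃+* BI 𝒟 g c i := RingEquiv.ofBijective (algebraMap R' (BI 𝒟 g c i))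
        ⟨fun a b h => congrFun (congrArg Prod.snd h) ⟨hi⟩, hbase i hi⟩
      exact Ideal.map_isPrime_of_equiv (I := p') e
  haveI := hprime
  have hcoker : ∀ i : Fin 𝒟.n, (hi : (i : ℕ) + 1 < 𝒟.n) →
      Nonempty ((MI 𝒟 g c i ⧸ LinearMap.range (α' i)) ≃ₗ[BI 𝒟 g c i] MI 𝒟 g c (i + 1)) := fun i hi => by
    rw [hα' i]
    letI := aA ⟨i + 1, hi⟩
    haveI := t7' i hi
    haveI := hnextpo i hi
    haveI : IsScalarTower (𝒟.A (i + 1)) (AI 𝒟 g c (i + 1)) (MI 𝒟 g c (i + 1)) := t9 ⟨i + 1, hi⟩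
    haveI : IsScalarTower (𝒟.B i) (𝒟.A (i + 1)) (MI 𝒟 g c (i + 1)) := inferInstance
    exact nonempty_cokerEquiv (hgB i) (𝒟.α i)
      (FlatPureHx.isBaseChange_of_isPushout (A := 𝒟.B i) (B := 𝒟.A (i + 1)) (A' := BI 𝒟 g c i)
        (B' := AI 𝒟 g c (i + 1)) (hg₁ ⟨i + 1, hi⟩)) (𝒟.isoCoker i hi)
  have hbB : ∀ i : Fin 𝒟.n, bEl 𝒟 g c i ∉ 𝒜.qB i := fun i => hb i i.2
  have haA : ∀ i : Fin 𝒟.n, aEl 𝒟 g c i ∉ 𝒜.qA i := fun i h => hbB i ((Ideal.mem_of_liesOver _ _ _).mpr h)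
  have hbij : ∀ i : Fin 𝒟.n,
      Function.Bijective ((α' i).baseChange (p'.map (algebraMap R' (BI 𝒟 g c i))).ResidueField) := fun i => by
    rw [hα' i]
    refine bijective_bcAlpha (hgB i) (𝒟.α i) (p.map (algebraMap R (𝒟.B i))) _ ?_ (𝒟.fibreIso i i.2)
    have hle : p.map (algebraMap R (𝒟.B i)) ≤ 𝒜.qB i :=
      Ideal.map_le_iff_le_comap.mpr (Ideal.over_def (𝒜.qB i) p).le
    conv_rhs => rw [← (isPrime_map_away (A' := BI 𝒟 g c i) (bEl 𝒟 g c i) (p.map (algebraMap R (𝒟.B i)))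
      fun h => hbB i (hle h)).2]
    congr 1
    show (p.map (algebraMap R R')).map (algebraMap R' (BI 𝒟 g c i)) = _
    rw [Ideal.map_map, Ideal.map_map, ← IsScalarTower.algebraMap_eq, ← IsScalarTower.algebraMap_eq]
  have hlast : Function.Surjective (α' (𝒟.n - 1)) := by
    have hlt : 𝒟.n - 1 < 𝒟.n := by have := 𝒟.pos; omega
    rw [← LinearMap.range_eq_top, hα' ⟨_, hlt⟩, range_bcAlpha, LinearMap.range_eq_top.mpr 𝒟.cokerLast]
    refine eq_top_iff.mpr fun x _ => ?_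
    refine (hgB ⟨_, hlt⟩).inductionOn x (fun x => x ∈ _) (zero_mem _)
      (fun m => Submodule.subset_span ⟨m, trivial, rfl⟩) (fun c m hm => Submodule.smul_mem _ c hm)
      fun _ _ => add_mem
  let f := LocalizedModule.mkLinearMap (Submonoid.powers hX) N
  have hf : IsBaseChange S' f := IsLocalizedModule.isBaseChange (Submonoid.powers hX) S' f
  let isoN : N' ≃ₗ[S'] MI 𝒟 g c 0 :=
    (hf.equiv.symm.trans (TensorProduct.AlgebraTensorModule.congr (LinearEquiv.refl S' S') 𝒟.isoN)).trans hgS.equiv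
  haveI := 𝒟.fpSA
  let 𝒟' : FlatCA.CompleteDevissage R' S' N' p' :=
    { n := 𝒟.n
      pos := 𝒟.pos
      A := AI 𝒟 g c
      B := BI 𝒟 g c
      M := MI 𝒟 g c
      r := 𝒟.r
      tRBA := tRBA
      tRSA := tRSA
      tRBA' := tRBA'
      tBAM := tBAM
      tRBM := tRBM
      tSAM := tSAM
      tB'AM := tB'AM
      hp := hprime
      α := α'
      surjSA := surjective_of_isPushout 𝒟.surjSA
      fpSA := finitePresentation_of_isPushout (S := S) (C := 𝒟.A 0)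
      surjBA' := fun i hi => by
        have hi' := Nat.lt_of_succ_lt hi
        letI := aA ⟨i + 1, hi⟩
        haveI := t7' ⟨i, hi'⟩ hi
        haveI := hnextpo ⟨i, hi'⟩ hi
        exact surjective_of_isPushout (S := 𝒟.B (Fin.val ⟨i, hi'⟩)) (𝒟.surjBA' i hi)
      fpBA' := fun i hi => by
        have hi' := Nat.lt_of_succ_lt hi
        letI := aA ⟨i + 1, hi⟩
        haveI := t7' ⟨i, hi'⟩ hi
        haveI := hnextpo ⟨i, hi'⟩ hi
        haveI := 𝒟.fpBA' i hi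
        exact finitePresentation_of_isPushout (S := 𝒟.B (Fin.val ⟨i, hi'⟩)) (C := 𝒟.A (i + 1))
      finiteBA := fun i hi => by
        haveI := poBA ⟨i, hi⟩
        haveI := 𝒟.finiteBA i hi
        exact finite_of_isPushout (S := 𝒟.B (Fin.val ⟨i, hi⟩)) (C := 𝒟.A (Fin.val ⟨i, hi⟩))
      smooth := fun i hi => hsm ⟨i, hi⟩
      geomIrred := fun i hi => hirr ⟨i, hi⟩
      finiteM := fun i hi => by
        haveI := 𝒟.finiteM i hi
        exact Module.Finite.equiv (hg₁ ⟨i, hi⟩).equiv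
      isoN := isoN
      isoCoker := fun i hi => (hcoker ⟨i, Nat.lt_of_succ_lt hi⟩ hi).some
      fibreIso := fun i hi => hbij ⟨i, hi⟩
      cokerLast := hlast }
  -- the points
  have hext : ∀ i : Fin 𝒟.n, ((𝒜.qB i).map (algebraMap (𝒟.B i) (BI 𝒟 g c i))).LiesOver p' := fun i =>
    haveI := (isPrime_map_away (A' := BI 𝒟 g c i) _ _ (hbB i)).1
    liesOver_map_away (fun r => by rw [← IsScalarTower.algebraMap_apply R R' (BI 𝒟 g c i),
      ← IsScalarTower.algebraMap_apply R (𝒟.B i) (BI 𝒟 g c i)]) g p hg (𝒜.qB i) _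
      (isPrime_map_away (A' := BI 𝒟 g c i) _ _ (hbB i)).2
  have hQex : ∀ i : ℕ, ∃ Q : Ideal (BI 𝒟 g c i), Q.IsPrime ∧ Q.LiesOver p' ∧
      ∀ hi : i < 𝒟.n, letI := aB ⟨i, hi⟩; Q = (𝒜.qB i).map (algebraMap (𝒟.B i) (BI 𝒟 g c i)) := fun i => by
    rcases Decidable.em (i < 𝒟.n) with hi | hi
    · exact ⟨_, (isPrime_map_away (A' := BI 𝒟 g c (Fin.val ⟨i, hi⟩)) _ _ (hbB ⟨i, hi⟩)).1, hext ⟨i, hi⟩,
        fun _ => rfl⟩
    · let ε : BI 𝒟 g c i →+* R' := (Pi.evalRingHom (fun _ => R') (⟨hi⟩ : PLift (¬ i < 𝒟.n))).comp (RingHom.snd _ _)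
      refine ⟨p'.comap ε, Ideal.IsPrime.comap _, ⟨?_⟩, fun h => absurd h hi⟩
      rw [Ideal.under_def, Ideal.comap_comap, show ε.comp (algebraMap R' (BI 𝒟 g c i)) = RingHom.id R' from rfl,
        Ideal.comap_id]
  choose QB hQB hQBp hQBeq using hQex
  have hQBc : ∀ i : Fin 𝒟.n, (QB i).comap (algebraMap (𝒟.B i) (BI 𝒟 g c i)) = 𝒜.qB i := fun i => by
    rw [hQBeq i i.2]; exact (isPrime_map_away (A' := BI 𝒟 g c i) _ _ (hbB i)).2
  have hPex : ∀ i : ℕ, ∃ P : Ideal (AI 𝒟 g c i), P.IsPrime ∧ P.LiesOver (QB i) ∧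
      ∀ hi : i < 𝒟.n, letI := aA ⟨i, hi⟩; P = (𝒜.qA i).map (algebraMap (𝒟.A i) (AI 𝒟 g c i)) := fun i => by
    rcases Decidable.em (i < 𝒟.n) with hi | hi
    · obtain ⟨j, rfl⟩ : ∃ j : Fin 𝒟.n, (j : ℕ) = i := ⟨⟨i, hi⟩, rfl⟩
      obtain ⟨hP, hPc⟩ := isPrime_map_away (A' := AI 𝒟 g c j) _ _ (haA j)
      haveI := hP
      refine ⟨_, hP, ?_, fun _ => rfl⟩
      rw [hQBeq j j.2]
      exact liesOver_map_away (fun b => by rw [← IsScalarTower.algebraMap_apply (𝒟.B j) (BI 𝒟 g c j),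
        ← IsScalarTower.algebraMap_apply (𝒟.B j) (𝒟.A j)]) (bEl 𝒟 g c j) _ (hbB j) (𝒜.qA j) _ hPc
    · let η : AI 𝒟 g c i →+* BI 𝒟 g c (i - 1) :=
        (Pi.evalRingHom (fun _ => BI 𝒟 g c (i - 1)) (⟨hi⟩ : PLift (¬ i < 𝒟.n))).comp (RingHom.snd _ _)
      haveI := hQB (i - 1)
      refine ⟨(QB (i - 1)).comap η, Ideal.IsPrime.comap _, ⟨?_⟩, fun h => absurd h hi⟩
      have hη : η.comp (algebraMap R' (AI 𝒟 g c i)) = algebraMap R' (BI 𝒟 g c (i - 1)) := rfl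
      have h1 : ((QB (i - 1)).comap η).comap (algebraMap R' (AI 𝒟 g c i)) = p' := by
        rw [Ideal.comap_comap, hη]; exact (hQBp (i - 1)).over.symm
      ext z
      obtain ⟨r, rfl⟩ := hbase i hi z
      show _ ↔ algebraMap (BI 𝒟 g c i) (AI 𝒟 g c i) (algebraMap R' _ r) ∈ (QB (i - 1)).comap η
      rw [← IsScalarTower.algebraMap_apply]
      exact ((Ideal.ext_iff.mp ((hQBp i).over.symm.trans h1.symm) r) :)
  choose QA hQA hQAB hQAeq using hPex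
  have hQAc : ∀ i : Fin 𝒟.n, (QA i).comap (algebraMap (𝒟.A i) (AI 𝒟 g c i)) = 𝒜.qA i := fun i => by
    rw [hQAeq i i.2]; exact (isPrime_map_away (A' := AI 𝒟 g c i) _ _ (haA i)).2
  haveI := hQB
  haveI := hQA
  haveI := hQBp
  haveI := hQAB
  let 𝒜' : FlatCA.CompleteDevissageAt R' S' N' p' (q.map (algebraMap S S')) 𝒟' :=
    { qB := QB
      qA := QA
      hqB := hQB
      hqA := hQA
      overB := hQBp
      overA := hQAB
      pureTrans := fun i hi => by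
        obtain ⟨j, rfl⟩ : ∃ j : Fin 𝒟.n, (j : ℕ) = i := ⟨⟨i, hi⟩, rfl⟩
        refine RG11.pureTrans_congr (RG11.TrivExt.of_localization g hg) ?_ (𝒜.pureTrans j hi)
        rw [hQBeq j j.2]
        exact RG11.TrivExt.of_localization (bEl 𝒟 g c j) (hbB j)
      uniq := fun i hi => by
        obtain ⟨j, rfl⟩ : ∃ j : Fin 𝒟.n, (j : ℕ) = i := ⟨⟨i, hi⟩, rfl⟩
        intro W hWp hW
        have hz : W.comap (algebraMap (𝒟.A j) (AI 𝒟 g c j)) = 𝒜.qA j := by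
          refine 𝒜.uniq j hi _ ⟨?_⟩
          rw [Ideal.under_def, Ideal.comap_comap, ← IsScalarTower.algebraMap_eq,
            IsScalarTower.algebraMap_eq (𝒟.B j) (BI 𝒟 g c j) (AI 𝒟 g c j), ← Ideal.comap_comap]
          exact ((congrArg (Ideal.comap (algebraMap (𝒟.B j) (BI 𝒟 g c j))) hW.over.symm).trans (hQBc j)).symm
        exact ((IsLocalization.map_under (Submonoid.powers (aEl 𝒟 g c j)) (AI 𝒟 g c j) W).symm.trans
          (congrArg (Ideal.map _) hz)).trans (hQAeq j j.2).symm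
      q0 := by
        show (QA 0).comap (algebraMap S' (AI 𝒟 g c 0)) = q.map (algebraMap S S')
        have h0c : (QA 0).comap (algebraMap (𝒟.A 0) (AI 𝒟 g c 0)) = 𝒜.qA 0 := hQAc ⟨0, 𝒟.pos⟩
        rw [← IsLocalization.map_under (Submonoid.powers hX) S' ((QA 0).comap (algebraMap S' (AI 𝒟 g c 0))),
          Ideal.under_def, Ideal.comap_comap, ← IsScalarTower.algebraMap_eq,
          IsScalarTower.algebraMap_eq S (𝒟.A 0) (AI 𝒟 g c 0), ← Ideal.comap_comap, h0c, 𝒜.q0]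
      qStep := fun i hi => by
        obtain ⟨j, rfl⟩ : ∃ j : Fin 𝒟.n, (j : ℕ) = i := ⟨⟨i, Nat.lt_of_succ_lt hi⟩, rfl⟩
        letI := aA ⟨j + 1, hi⟩
        haveI := t7' j hi
        show (QA (j + 1)).comap (algebraMap (BI 𝒟 g c j) (AI 𝒟 g c (j + 1))) = QB j
        have hc : (QA (j + 1)).comap (algebraMap (𝒟.A (j + 1)) (AI 𝒟 g c (j + 1))) = 𝒜.qA (j + 1) :=
          hQAc ⟨j + 1, hi⟩
        rw [← IsLocalization.map_under (Submonoid.powers (bEl 𝒟 g c j)) (BI 𝒟 g c j)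
            ((QA (j + 1)).comap (algebraMap (BI 𝒟 g c j) (AI 𝒟 g c (j + 1)))),
          Ideal.under_def, Ideal.comap_comap, ← IsScalarTower.algebraMap_eq,
          IsScalarTower.algebraMap_eq (𝒟.B j) (𝒟.A (j + 1)) (AI 𝒟 g c (j + 1)), ← Ideal.comap_comap, hc,
          𝒜.qStep j hi, hQBeq j j.2]
      d := 𝒜.d
      relDim := fun i hi => smoothRelDim_away (R := R) (B := 𝒟.B (Fin.val ⟨i, hi⟩)) g (bEl 𝒟 g c (Fin.val ⟨i, hi⟩))
        (𝒜.relDim i hi)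
      locDim := fun i hi => by
        obtain ⟨j, rfl⟩ : ∃ j : Fin 𝒟.n, (j : ℕ) = i := ⟨⟨i, hi⟩, rfl⟩
        haveI := 𝒟.finiteM j hi
        haveI := 𝒟.finiteBA j hi
        haveI : Module.Finite (𝒟.B j) (𝒟.M j) := Module.Finite.trans (𝒟.A j) (𝒟.M j)
        exact (localDim_and_supportDim_away p (𝒟.M j) g p' hp'c (bEl 𝒟 g c j) (hgB j) (𝒜.qB j) inferInstance
          (QB j) (hQBc j) (𝒜.locDim j hi)).2 }
  refine ⟨aRS, tRS, mRN, tRN, hp', hq', 𝒟', 𝒜', aA, fun i => inferInstanceAs (Algebra R (AI 𝒟 g c i)),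
    fun i => inferInstanceAs (IsScalarTower R R' (AI 𝒟 g c i)), t2, aB,
    fun i => inferInstanceAs (Algebra R (BI 𝒟 g c i)), fun i => inferInstanceAs (IsScalarTower R R' (BI 𝒟 g c i)),
    t4, bA, t5, t6, bA', t7, sA, t8, mA, t9, fun i => gM i, rfl, rfl, rfl, t0, fun x => ?_, t7',
    fun i => ⟨haA i, hbB i, hlA i, hlB i, hgloc i, ⟨(hQAc i).symm⟩, ⟨(hQBc i).symm⟩, ?_⟩⟩
  · show hgS.equiv (TensorProduct.AlgebraTensorModule.congr (LinearEquiv.refl S' S') 𝒟.isoN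
      (hf.equiv.symm (f x))) = gM 0 (𝒟.isoN x)
    rw [hf.equiv_symm_apply, TensorProduct.AlgebraTensorModule.congr_tmul, IsBaseChange.equiv_tmul,
      LinearEquiv.refl_apply, one_smul]
    rfl
  · show LinearMap.range (α' i) = _
    rw [hα' i, range_bcAlpha]
    rfl

end Groth.Agent.DevissBCHx.Shr
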