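import Groth.Agent.DevissBCHx.ShrinkStep

/-!
# The rings and maps of a standard shrinking of a complete dévissage

At the steps the rings are principal opens.  Beyond them the smooth algebras are the base and the rings
carrying modules the preceding smooth algebra, so that the points continue.
-/

set_option linter.style.haveILetI false
set_option backward.isDefEq.respectTransparency false
set_option maxHeartbeats 1000000

universe u

namespace Groth.Agent.DevissBCHx.Shr

variable {R S : Type u} [CommRing R] [CommRing S] [Algebra R S]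
  {N : Type u} [AddCommGroup N] [Module S N] {p : Ideal R} [p.IsPrime]
  (𝒟 : FlatCA.CompleteDevissage R S N p) (g : R) (c : ∀ i, 𝒟.B i)

/-- The equations on the smooth algebras. -/
abbrev bEl (i : ℕ) : 𝒟.B i := c i * algebraMap R (𝒟.B i) g

/-- The equations on the rings carrying the modules. -/
abbrev aEl (i : ℕ) : 𝒟.A i := algebraMap (𝒟.B i) (𝒟.A i) (bEl 𝒟 g c i)

/-- The base acts on the principal open of the smooth algebra. -/
noncomputable instance algB (i : ℕ) : Algebra (Localization.Away g) (Localization.Away (bEl 𝒟 g c i)) :=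
  (IsLocalization.Away.lift g
    (g := algebraMap R (Localization.Away (bEl 𝒟 g c i))) (by
      rw [IsScalarTower.algebraMap_apply R (𝒟.B i)]
      exact isUnit_away_of_dvd (dvd_mul_left _ _))).toAlgebra

instance (i : ℕ) : IsScalarTower R (Localization.Away g) (Localization.Away (bEl 𝒟 g c i)) :=
  IsScalarTower.of_algebraMap_eq fun r => (IsLocalization.Away.lift_eq g _ r).symm

/-- The base acts on the principal open of the ring carrying the module. -/
noncomputable instance algA (i : ℕ) : Algebra (Localization.Away g) (Localization.Away (aEl 𝒟 g c i)) :=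
  (IsLocalization.Away.lift g
    (g := algebraMap R (Localization.Away (aEl 𝒟 g c i))) (by
      rw [IsScalarTower.algebraMap_apply R (𝒟.A i), IsScalarTower.algebraMap_apply R (𝒟.B i) (𝒟.A i)]
      exact isUnit_away_of_dvd ((algebraMap (𝒟.B i) (𝒟.A i)).map_dvd (dvd_mul_left _ _)))).toAlgebra

instance (i : ℕ) : IsScalarTower R (Localization.Away g) (Localization.Away (aEl 𝒟 g c i)) :=
  IsScalarTower.of_algebraMap_eq fun r => (IsLocalization.Away.lift_eq g _ r).symm

/-- The smooth algebras. -/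
abbrev BI (i : ℕ) : Type u :=
  (PLift (i < 𝒟.n) → Localization.Away (bEl 𝒟 g c i)) × (PLift (¬ i < 𝒟.n) → Localization.Away g)

/-- The rings carrying the modules. -/
abbrev AI (i : ℕ) : Type u :=
  (PLift (i < 𝒟.n) → Localization.Away (aEl 𝒟 g c i)) × (PLift (¬ i < 𝒟.n) → BI 𝒟 g c (i - 1))

/-- The modules. -/
abbrev MI (i : ℕ) : Type u := PLift (i < 𝒟.n) → LocalizedModule (Submonoid.powers (aEl 𝒟 g c i)) (𝒟.M i)

noncomputable instance moduleMI (i : ℕ) : Module (AI 𝒟 g c i) (MI 𝒟 g c i) :=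
  Module.compHom _ (RingHom.fst (PLift (i < 𝒟.n) → Localization.Away (aEl 𝒟 g c i))
    (PLift (¬ i < 𝒟.n) → BI 𝒟 g c (i - 1)))

/-- The map from a smooth algebra to its principal open. -/
noncomputable def bInc (i : Fin 𝒟.n) : 𝒟.B i →+* BI 𝒟 g c i :=
  RingHom.prod (Pi.ringHom fun _ => algebraMap (𝒟.B i) (Localization.Away (bEl 𝒟 g c i)))
    (Pi.ringHom fun h => absurd i.2 h.down)

/-- The map from a ring carrying a module to its principal open. -/
noncomputable def aInc (i : Fin 𝒟.n) : 𝒟.A i →+* AI 𝒟 g c i :=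
  RingHom.prod (Pi.ringHom fun _ => algebraMap (𝒟.A i) (Localization.Away (aEl 𝒟 g c i)))
    (Pi.ringHom fun h => absurd i.2 h.down)

theorem algebraMap_bInc (i : Fin 𝒟.n) (r : R) :
    bInc 𝒟 g c i (algebraMap R (𝒟.B i) r) = algebraMap R (BI 𝒟 g c i) r :=
  haveI : IsEmpty (PLift (¬ (i : ℕ) < 𝒟.n)) := ⟨fun h => h.down i.2⟩
  Prod.ext (funext fun _ => (IsScalarTower.algebraMap_apply R (𝒟.B i) _ r).symm) (funext isEmptyElim)

theorem algebraMap_aInc (i : Fin 𝒟.n) (r : R) :
    aInc 𝒟 g c i (algebraMap R (𝒟.A i) r) = algebraMap R (AI 𝒟 g c i) r :=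
  haveI : IsEmpty (PLift (¬ (i : ℕ) < 𝒟.n)) := ⟨fun h => h.down i.2⟩
  Prod.ext (funext fun _ => (IsScalarTower.algebraMap_apply R (𝒟.A i) _ r).symm) (funext isEmptyElim)

theorem away_bInc (i : Fin 𝒟.n) :
    letI := (bInc 𝒟 g c i).toAlgebra
    IsLocalization.Away (bEl 𝒟 g c i) (BI 𝒟 g c i) := by
  letI := (bInc 𝒟 g c i).toAlgebra
  haveI : IsEmpty (PLift (¬ (i : ℕ) < 𝒟.n)) := ⟨fun h => h.down i.2⟩
  let e : Localization.Away (bEl 𝒟 g c i) ≃ₐ[𝒟.B i] BI 𝒟 g c i := AlgEquiv.ofBijective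
    { toFun := fun x => (fun _ => x, isEmptyElim)
      map_one' := Prod.ext rfl (funext isEmptyElim)
      map_mul' := fun _ _ => Prod.ext rfl (funext isEmptyElim)
      map_zero' := Prod.ext rfl (funext isEmptyElim)
      map_add' := fun _ _ => Prod.ext rfl (funext isEmptyElim)
      commutes' := fun _ => Prod.ext rfl (funext isEmptyElim) }
    ⟨fun a b h => congrFun (congrArg Prod.fst h) ⟨i.2⟩, fun z => ⟨z.1 ⟨i.2⟩, Prod.ext rfl (funext isEmptyElim)⟩⟩
  exact IsLocalization.isLocalization_of_algEquiv (Submonoid.powers (bEl 𝒟 g c i)) e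

theorem away_aInc (i : Fin 𝒟.n) :
    letI := (aInc 𝒟 g c i).toAlgebra
    IsLocalization.Away (aEl 𝒟 g c i) (AI 𝒟 g c i) := by
  letI := (aInc 𝒟 g c i).toAlgebra
  haveI : IsEmpty (PLift (¬ (i : ℕ) < 𝒟.n)) := ⟨fun h => h.down i.2⟩
  let e : Localization.Away (aEl 𝒟 g c i) ≃ₐ[𝒟.A i] AI 𝒟 g c i := AlgEquiv.ofBijective
    { toFun := fun x => (fun _ => x, isEmptyElim)
      map_one' := Prod.ext rfl (funext isEmptyElim)
      map_mul' := fun _ _ => Prod.ext rfl (funext isEmptyElim)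
      map_zero' := Prod.ext rfl (funext isEmptyElim)
      map_add' := fun _ _ => Prod.ext rfl (funext isEmptyElim)
      commutes' := fun _ => Prod.ext rfl (funext isEmptyElim) }
    ⟨fun a b h => congrFun (congrArg Prod.fst h) ⟨i.2⟩, fun z => ⟨z.1 ⟨i.2⟩, Prod.ext rfl (funext isEmptyElim)⟩⟩
  exact IsLocalization.isLocalization_of_algEquiv (Submonoid.powers (aEl 𝒟 g c i)) e

/-- The map between the principal opens. -/
noncomputable def bsToAs (i : ℕ) :
    Localization.Away (bEl 𝒟 g c i) →+* Localization.Away (aEl 𝒟 g c i) :=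
  IsLocalization.Away.lift (bEl 𝒟 g c i) (g := algebraMap (𝒟.B i) (Localization.Away (aEl 𝒟 g c i))) (by
    rw [IsScalarTower.algebraMap_apply (𝒟.B i) (𝒟.A i)]
    exact IsLocalization.Away.algebraMap_isUnit (aEl 𝒟 g c i))

theorem bsToAs_algebraMap (i : ℕ) (b : 𝒟.B i) :
    bsToAs 𝒟 g c i (algebraMap _ _ b) = algebraMap _ _ (algebraMap (𝒟.B i) (𝒟.A i) b) :=
  (IsLocalization.Away.lift_eq _ _ b).trans (IsScalarTower.algebraMap_apply (𝒟.B i) (𝒟.A i) _ b)

theorem bsToAs_base (i : ℕ) : (bsToAs 𝒟 g c i).comp (algebraMap (Localization.Away g) _) =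
    algebraMap (Localization.Away g) (Localization.Away (aEl 𝒟 g c i)) := by
  refine IsLocalization.ringHom_ext (Submonoid.powers g) (RingHom.ext fun r => ?_)
  simp only [RingHom.comp_apply, ← IsScalarTower.algebraMap_apply R (Localization.Away g)]
  rw [IsScalarTower.algebraMap_apply R (𝒟.B i) (Localization.Away (bEl 𝒟 g c i)), bsToAs_algebraMap,
    IsScalarTower.algebraMap_apply R (𝒟.A i) (Localization.Away (aEl 𝒟 g c i)),
    ← IsScalarTower.algebraMap_apply R (𝒟.B i) (𝒟.A i)]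

variable (hnext : ∀ i, i + 1 < 𝒟.n →
  IsUnit (algebraMap (𝒟.A (i + 1)) (Localization.Away (aEl 𝒟 g c (i + 1)))
    (algebraMap (𝒟.B i) (𝒟.A (i + 1)) (bEl 𝒟 g c i))))

/-- The map to the next principal open. -/
noncomputable def bsToAs' (i : ℕ) (hi : i + 1 < 𝒟.n) :
    Localization.Away (bEl 𝒟 g c i) →+* Localization.Away (aEl 𝒟 g c (i + 1)) :=
  IsLocalization.Away.lift (bEl 𝒟 g c i) (g := (algebraMap (𝒟.A (i + 1)) (Localization.Away (aEl 𝒟 g c (i + 1)))).comp
    (algebraMap (𝒟.B i) (𝒟.A (i + 1)))) (hnext i hi)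

theorem bsToAs'_algebraMap (i : ℕ) (hi : i + 1 < 𝒟.n) (b : 𝒟.B i) :
    bsToAs' 𝒟 g c hnext i hi (algebraMap _ _ b) = algebraMap _ _ (algebraMap (𝒟.B i) (𝒟.A (i + 1)) b) :=
  IsLocalization.Away.lift_eq _ _ b

theorem bsToAs'_base (i : ℕ) (hi : i + 1 < 𝒟.n) :
    (bsToAs' 𝒟 g c hnext i hi).comp (algebraMap (Localization.Away g) _) =
      algebraMap (Localization.Away g) (Localization.Away (aEl 𝒟 g c (i + 1))) := by
  refine IsLocalization.ringHom_ext (Submonoid.powers g) (RingHom.ext fun r => ?_)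
  simp only [RingHom.comp_apply, ← IsScalarTower.algebraMap_apply R (Localization.Away g)]
  rw [IsScalarTower.algebraMap_apply R (𝒟.B i) (Localization.Away (bEl 𝒟 g c i)), bsToAs',
    IsLocalization.Away.lift_eq, RingHom.comp_apply,
    IsScalarTower.algebraMap_apply R (𝒟.A (i + 1)) (Localization.Away (aEl 𝒟 g c (i + 1))),
    ← IsScalarTower.algebraMap_apply R (𝒟.B i) (𝒟.A (i + 1))]

/-- The map from the smooth algebra to the ring carrying the module. -/
noncomputable def bToA (i : ℕ) : BI 𝒟 g c i →ₐ[Localization.Away g] AI 𝒟 g c i where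
  toRingHom := RingHom.prod
    ((Pi.ringHom fun h : PLift (i < 𝒟.n) => (bsToAs 𝒟 g c i).comp (Pi.evalRingHom _ h)).comp (RingHom.fst _ _))
    ((Pi.ringHom fun h : PLift (¬ i < 𝒟.n) =>
      (algebraMap (Localization.Away g) (BI 𝒟 g c (i - 1))).comp (Pi.evalRingHom _ h)).comp (RingHom.snd _ _))
  commutes' r := Prod.ext (funext fun _ => RingHom.congr_fun (bsToAs_base 𝒟 g c i) r) (funext fun _ => rfl)

/-- The map from the smooth algebra to the next ring carrying a module. -/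
noncomputable def bToA' (i : ℕ) : BI 𝒟 g c i →ₐ[Localization.Away g] AI 𝒟 g c (i + 1) where
  toRingHom := RingHom.prod
    ((Pi.ringHom fun h : PLift (i + 1 < 𝒟.n) => (bsToAs' 𝒟 g c hnext i h.down).comp
      (Pi.evalRingHom _ ⟨Nat.lt_of_succ_lt h.down⟩)).comp (RingHom.fst _ _))
    (Pi.ringHom fun _ : PLift (¬ i + 1 < 𝒟.n) => RingHom.id (BI 𝒟 g c i))
  commutes' r := Prod.ext (funext fun h => by
      show bsToAs' 𝒟 g c hnext i h.down (algebraMap (Localization.Away g) (Localization.Away (bEl 𝒟 g c i)) r) = _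
      exact (RingHom.congr_fun (bsToAs'_base 𝒟 g c hnext i h.down) r :))
    (funext fun _ => rfl)

theorem bToA_bInc (i : Fin 𝒟.n) (b : 𝒟.B i) :
    bToA 𝒟 g c i (bInc 𝒟 g c i b) = aInc 𝒟 g c i (algebraMap (𝒟.B i) (𝒟.A i) b) :=
  haveI : IsEmpty (PLift (¬ (i : ℕ) < 𝒟.n)) := ⟨fun h => h.down i.2⟩
  Prod.ext (funext fun _ => bsToAs_algebraMap 𝒟 g c i b) (funext isEmptyElim)

theorem bToA'_bInc (i : Fin 𝒟.n) (hi : (i : ℕ) + 1 < 𝒟.n) (b : 𝒟.B i) :
    bToA' 𝒟 g c hnext i (bInc 𝒟 g c i b) =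
      aInc 𝒟 g c ⟨i + 1, hi⟩ (algebraMap (𝒟.B i) (𝒟.A (i + 1)) b) :=
  haveI : IsEmpty (PLift (¬ (i : ℕ) + 1 < 𝒟.n)) := ⟨fun h => h.down hi⟩
  Prod.ext (funext fun _ => bsToAs'_algebraMap 𝒟 g c hnext i hi b) (funext isEmptyElim)

end Groth.Agent.DevissBCHx.Shr
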