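import Groth.Agent.DevissBCHx.ShrinkRing
import Groth.Agent.RG11.TrivExt
import Groth.Agent.FlatPureHx.UnivInj

/-!
# Standard shrinkings of a one-step dévissage
-/

set_option linter.style.haveILetI false
set_option backward.isDefEq.respectTransparency false
set_option maxHeartbeats 2000000

universe u

open TensorProduct

namespace Groth.Agent.DevissBCHx

theorem isUnit_away_of_dvd {A : Type u} [CommRing A] {a h : A} (hd : a ∣ h) :
    IsUnit (algebraMap A (Localization.Away h) a) :=
  isUnit_of_dvd_unit ((algebraMap A (Localization.Away h)).map_dvd hd) (IsLocalization.Away.algebraMap_isUnit h)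

theorem isPushout_away {S C S' C' : Type u} [CommRing S] [CommRing C] [CommRing S'] [CommRing C']
    [Algebra S C] [Algebra S S'] [Algebra S' C'] [Algebra C C'] [Algebra S C'] [IsScalarTower S S' C']
    [IsScalarTower S C C'] (h : S) [IsLocalization.Away h S'] [IsLocalization.Away (algebraMap S C h) C'] :
    Algebra.IsPushout S C S' C' := by
  haveI : IsLocalization (Algebra.algebraMapSubmonoid C (Submonoid.powers h)) C' := by
    rw [Algebra.algebraMapSubmonoid, Submonoid.map_powers]
    assumption
  exact Algebra.isPushout_of_isLocalization (Submonoid.powers h) S' C C'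

/-- A prime missing `h` and its extension to `A[1/h]`. -/
theorem isPrime_map_away {A A' : Type u} [CommRing A] [CommRing A'] [Algebra A A'] (h : A)
    [IsLocalization.Away h A'] (P : Ideal A) [P.IsPrime] (hP : h ∉ P) :
    (P.map (algebraMap A A')).IsPrime ∧ (P.map (algebraMap A A')).comap (algebraMap A A') = P :=
  ⟨IsLocalization.isPrime_of_isPrime_disjoint (Submonoid.powers h) A' _ inferInstance
      ((Ideal.disjoint_powers_iff_notMem_of_isPrime _).2 hP),
    IsLocalization.comap_map_of_isPrime_disjoint (Submonoid.powers h) A' inferInstance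
      ((Ideal.disjoint_powers_iff_notMem_of_isPrime _).2 hP)⟩

theorem liesOver_map_away {A A' E E' : Type u} [CommRing A] [CommRing A'] [CommRing E] [CommRing E']
    [Algebra A A'] [Algebra A E] [Algebra A' E'] [Algebra E E'] (hc : ∀ a, algebraMap A' E' (algebraMap A A' a) =
      algebraMap E E' (algebraMap A E a)) (h : A) [IsLocalization.Away h A'] (P : Ideal A) [P.IsPrime] (hP : h ∉ P)
    (Q : Ideal E) (Q' : Ideal E') [Q'.IsPrime] (hQ' : Q'.comap (algebraMap E E') = Q) [Q.LiesOver P] :
    Q'.LiesOver (P.map (algebraMap A A')) := by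
  constructor
  rw [Ideal.under_def, ← IsLocalization.map_comap (Submonoid.powers h) A' (Q'.comap (algebraMap A' E')),
    Ideal.under_def, Ideal.comap_comap, show (algebraMap A' E').comp (algebraMap A A') =
      (algebraMap E E').comp (algebraMap A E) from RingHom.ext hc, ← Ideal.comap_comap, hQ',
    ← Ideal.under_def, ← Ideal.over_def Q P]

set_option maxHeartbeats 4000000 in
/-- A standard shrinking. -/
theorem exists_shrink_oneStep
    (R S : Type u) [CommRing R] [CommRing S] [Algebra R S]
    (N : Type u) [AddCommGroup N] [Module S N] [Module R N] [IsScalarTower R S N] [Module.Finite S N]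
    (p : Ideal R) [p.IsPrime] (q : Ideal S) [q.IsPrime] [q.LiesOver p]
    (C D G : Type u) [CommRing C] [CommRing D] [Algebra S C] [Algebra R C] [IsScalarTower R S C]
    [Algebra R D] [Algebra D C] [IsScalarTower R D C] [AddCommGroup G] [Module C G] [Module S G]
    [IsScalarTower S C G] (n : ℕ)
    (h : FlatCA.IsOneStepDevissage R S N p C D G n)
    (z : Ideal C) [z.IsPrime] (y : Ideal D) [y.IsPrime] [z.LiesOver q] [z.LiesOver y] [y.LiesOver p]
    (h1 : ∃ (ξ : PrimeSpectrum (p.Fiber S)) (hξ : ξ ∈ Module.support (p.Fiber S) (FlatCA.fiberMod p S N)),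
      ξ.asIdeal = FlatCA.fiberIdeal p q ∧
      FlatMor.localDim (Module.support (p.Fiber S) (FlatCA.fiberMod p S N)) ⟨ξ, hξ⟩ = n)
    (h3 : ∀ (z₁ : Ideal C) [z₁.IsPrime], z₁.LiesOver y → z₁ = z)
    (h4 : FlatCA.PurelyTranscendental p y)
    (g : R) (hX : S) (hY : D) (hg : g ∉ p) (hXq : hX ∉ q) (hYy : hY ∉ y)
    (hgX : algebraMap R S g ∣ hX) (hgY : algebraMap R D g ∣ hY)
    {k l : ℕ} (hk : algebraMap S C hX ∣ algebraMap D C hY ^ k) (hl : algebraMap D C hY ∣ algebraMap S C hX ^ l)
    (himg : ∀ t : PrimeSpectrum R, g ∉ t.asIdeal →
      ∃ P : PrimeSpectrum D, hY ∉ P.asIdeal ∧ P.asIdeal.comap (algebraMap R D) = t.asIdeal) :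
    algebraMap S C hX ∉ z ∧
      ∃ (_ : Algebra (Localization.Away g) (Localization.Away hX)) (_ : IsScalarTower R (Localization.Away g) (Localization.Away hX))
        (_ : Algebra (Localization.Away g) (Localization.Away (algebraMap S C hX))) (_ : IsScalarTower R (Localization.Away g) (Localization.Away (algebraMap S C hX)))
        (_ : Algebra (Localization.Away g) (Localization.Away hY)) (_ : IsScalarTower R (Localization.Away g) (Localization.Away hY))
        (_ : Algebra (Localization.Away hX) (Localization.Away (algebraMap S C hX))) (_ : IsScalarTower S (Localization.Away hX) (Localization.Away (algebraMap S C hX)))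
        (_ : IsScalarTower (Localization.Away g) (Localization.Away hX) (Localization.Away (algebraMap S C hX)))
        (_ : Algebra (Localization.Away hY) (Localization.Away (algebraMap S C hX))) (_ : IsScalarTower D (Localization.Away hY) (Localization.Away (algebraMap S C hX)))
        (_ : IsScalarTower (Localization.Away g) (Localization.Away hY) (Localization.Away (algebraMap S C hX)))
        (_ : Module (Localization.Away g) (LocalizedModule (Submonoid.powers hX) N)) (_ : IsScalarTower (Localization.Away g) (Localization.Away hX) (LocalizedModule (Submonoid.powers hX) N))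
        (_ : Module (Localization.Away hX) (LocalizedModule (Submonoid.powers (algebraMap S C hX)) G)) (_ : IsScalarTower (Localization.Away hX) (Localization.Away (algebraMap S C hX)) (LocalizedModule (Submonoid.powers (algebraMap S C hX)) G))
        (_ : (Ideal.map (algebraMap R (Localization.Away g)) p).IsPrime) (_ : (Ideal.map (algebraMap D (Localization.Away hY)) y).IsPrime) (_ : (Ideal.map (algebraMap D (Localization.Away hY)) y).LiesOver (Ideal.map (algebraMap R (Localization.Away g)) p)),
        FlatCA.IsOneStepDevissage (Localization.Away g) (Localization.Away hX) (LocalizedModule (Submonoid.powers hX) N) (Ideal.map (algebraMap R (Localization.Away g)) p) (Localization.Away (algebraMap S C hX)) (Localization.Away hY) (LocalizedModule (Submonoid.powers (algebraMap S C hX)) G) n ∧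
        (∃ (ξ : PrimeSpectrum ((Ideal.map (algebraMap R (Localization.Away g)) p).Fiber (Localization.Away hX)))
            (hξ : ξ ∈ Module.support ((Ideal.map (algebraMap R (Localization.Away g)) p).Fiber (Localization.Away hX)) (FlatCA.fiberMod (Ideal.map (algebraMap R (Localization.Away g)) p) (Localization.Away hX) (LocalizedModule (Submonoid.powers hX) N))),
          ξ.asIdeal = FlatCA.fiberIdeal (Ideal.map (algebraMap R (Localization.Away g)) p) (Ideal.map (algebraMap S (Localization.Away hX)) q) ∧
          FlatMor.localDim (Module.support ((Ideal.map (algebraMap R (Localization.Away g)) p).Fiber (Localization.Away hX)) (FlatCA.fiberMod (Ideal.map (algebraMap R (Localization.Away g)) p) (Localization.Away hX) (LocalizedModule (Submonoid.powers hX) N))) ⟨ξ, hξ⟩ = n) ∧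
        (Ideal.map (algebraMap C (Localization.Away (algebraMap S C hX))) z).LiesOver (Ideal.map (algebraMap S (Localization.Away hX)) q) ∧ (Ideal.map (algebraMap C (Localization.Away (algebraMap S C hX))) z).LiesOver (Ideal.map (algebraMap D (Localization.Away hY)) y) ∧
        (∀ (z₂ : Ideal (Localization.Away (algebraMap S C hX))) [z₂.IsPrime], z₂.LiesOver (Ideal.map (algebraMap D (Localization.Away hY)) y) → z₂ = Ideal.map (algebraMap C (Localization.Away (algebraMap S C hX))) z) ∧
        FlatCA.PurelyTranscendental (Ideal.map (algebraMap R (Localization.Away g)) p) (Ideal.map (algebraMap D (Localization.Away hY)) y) := by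
  obtain ⟨⟨iso⟩, hsurj, hfp, hfinD, hfinG, hsm, hgi, hdim⟩ := h
  set hZ := algebraMap S C hX with hhZ
  have hZz : hZ ∉ z := fun hm => hXq (by rwa [Ideal.over_def z q])
  refine ⟨hZz, ?_⟩
  let R' := Localization.Away g
  let S' := Localization.Away hX
  let C' := Localization.Away hZ
  let D' := Localization.Away hY
  have uS : IsUnit (algebraMap R S' g) := by
    rw [IsScalarTower.algebraMap_apply R S S']; exact isUnit_away_of_dvd hgX
  have uD : IsUnit (algebraMap R D' g) := by
    rw [IsScalarTower.algebraMap_apply R D D']; exact isUnit_away_of_dvd hgY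
  have uC : IsUnit (algebraMap R C' g) := by
    rw [IsScalarTower.algebraMap_apply R C C', IsScalarTower.algebraMap_apply R S C]
    exact isUnit_away_of_dvd ((algebraMap S C).map_dvd hgX)
  have uSC : IsUnit (algebraMap S C' hX) := by
    rw [IsScalarTower.algebraMap_apply S C C']; exact IsLocalization.Away.algebraMap_isUnit hZ
  haveI : IsLocalization.Away (algebraMap D C hY) C' := away_of_dvd_pow hZ _ hk hl
  have uDC : IsUnit (algebraMap D C' hY) := by
    rw [IsScalarTower.algebraMap_apply D C C']; exact IsLocalization.Away.algebraMap_isUnit (algebraMap D C hY)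
  letI aRS : Algebra R' S' := (IsLocalization.Away.lift g uS).toAlgebra
  letI aRC : Algebra R' C' := (IsLocalization.Away.lift g uC).toAlgebra
  letI aRD : Algebra R' D' := (IsLocalization.Away.lift g uD).toAlgebra
  letI aSC : Algebra S' C' := (IsLocalization.Away.lift hX uSC).toAlgebra
  letI aDC : Algebra D' C' := (IsLocalization.Away.lift hY uDC).toAlgebra
  haveI tRS : IsScalarTower R R' S' := IsScalarTower.of_algebraMap_eq fun r =>
    (IsLocalization.Away.lift_eq g uS r).symm
  haveI tRC : IsScalarTower R R' C' := IsScalarTower.of_algebraMap_eq fun r =>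
    (IsLocalization.Away.lift_eq g uC r).symm
  haveI tRD : IsScalarTower R R' D' := IsScalarTower.of_algebraMap_eq fun r =>
    (IsLocalization.Away.lift_eq g uD r).symm
  haveI tSC : IsScalarTower S S' C' := IsScalarTower.of_algebraMap_eq fun r =>
    (IsLocalization.Away.lift_eq hX uSC r).symm
  haveI tDC : IsScalarTower D D' C' := IsScalarTower.of_algebraMap_eq fun r =>
    (IsLocalization.Away.lift_eq hY uDC r).symm
  haveI tRSC : IsScalarTower R' S' C' := IsScalarTower.of_algebraMap_eq' (IsLocalization.ringHom_ext
    (Submonoid.powers g) (RingHom.ext fun r => by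
      simp only [RingHom.comp_apply, ← IsScalarTower.algebraMap_apply R R' S', ← IsScalarTower.algebraMap_apply R R' C']
      rw [IsScalarTower.algebraMap_apply R S S', ← IsScalarTower.algebraMap_apply S S' C',
        IsScalarTower.algebraMap_apply S C C', ← IsScalarTower.algebraMap_apply R S C,
        ← IsScalarTower.algebraMap_apply R C C']))
  haveI tRDC : IsScalarTower R' D' C' := IsScalarTower.of_algebraMap_eq' (IsLocalization.ringHom_ext
    (Submonoid.powers g) (RingHom.ext fun r => by
      simp only [RingHom.comp_apply, ← IsScalarTower.algebraMap_apply R R' D', ← IsScalarTower.algebraMap_apply R R' C']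
      rw [IsScalarTower.algebraMap_apply R D D', ← IsScalarTower.algebraMap_apply D D' C',
        IsScalarTower.algebraMap_apply D C C', ← IsScalarTower.algebraMap_apply R D C,
        ← IsScalarTower.algebraMap_apply R C C']))
  let N' := LocalizedModule (Submonoid.powers hX) N
  let G' := LocalizedModule (Submonoid.powers hZ) G
  letI mRN : Module R' N' := Module.compHom N' (algebraMap R' S')
  haveI tRN : IsScalarTower R' S' N' := IsScalarTower.of_algebraMap_smul fun _ _ => rfl
  letI mSG : Module S' G' := Module.compHom G' (algebraMap S' C')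
  haveI tSG : IsScalarTower S' C' G' := IsScalarTower.of_algebraMap_smul fun _ _ => rfl
  obtain ⟨hp', hp'c⟩ := isPrime_map_away (A' := R') g p hg
  obtain ⟨hy', hy'c⟩ := isPrime_map_away (A' := D') hY y hYy
  obtain ⟨hq', hq'c⟩ := isPrime_map_away (A' := S') hX q hXq
  obtain ⟨hz', hz'c⟩ := isPrime_map_away (A' := C') hZ z hZz
  haveI := hp'
  haveI := hy'
  haveI := hq'
  haveI := hz'
  have hy'p : (Ideal.map (algebraMap D D') y).LiesOver (Ideal.map (algebraMap R R') p) :=
    liesOver_map_away (fun r => by rw [← IsScalarTower.algebraMap_apply R R' D',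
      ← IsScalarTower.algebraMap_apply R D D']) g p hg y _ hy'c
  -- module maps
  let f := LocalizedModule.mkLinearMap (Submonoid.powers hX) N
  have hf : IsBaseChange S' f := IsLocalizedModule.isBaseChange (Submonoid.powers hX) S' f
  let gG := LocalizedModule.mkLinearMap (Submonoid.powers hZ) G
  have hgG : IsBaseChange C' gG := IsLocalizedModule.isBaseChange (Submonoid.powers hZ) C' gG
  haveI : Algebra.IsPushout S C S' C' := isPushout_away hX
  haveI : Algebra.IsPushout D C D' C' := isPushout_away hY
  obtain ⟨hdim', hloc'⟩ := localDim_and_supportDim_away p N g (Ideal.map (algebraMap R R') p) hp'c hX hf q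
    inferInstance (Ideal.map (algebraMap S S') q) hq'c h1
  refine ⟨aRS, tRS, aRC, tRC, aRD, tRD, aSC, tSC, tRSC, aDC, tDC, tRDC, mRN, tRN, mSG, tSG, hp', hy', hy'p,
    ⟨?_, surjective_of_isPushout hsurj, finitePresentation_of_isPushout (S := S) (C := C),
      finite_of_isPushout (S := D) (C := C), Module.Finite.equiv hgG.equiv,
      smoothRelDim_away (R := R) (B := D) g hY hsm, geomIrredFibres_away (R := R) (B := D) g hY hgi himg, hdim' hdim⟩,
    hloc', ?_, ?_, ?_, ?_⟩
  · haveI : IsScalarTower S S' G' := IsScalarTower.of_algebraMap_smul fun s x => by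
      rw [← algebraMap_smul C' (algebraMap S S' s) x, ← IsScalarTower.algebraMap_apply,
        IsScalarTower.algebraMap_apply S C C', algebraMap_smul, algebraMap_smul]
    have hgS : IsBaseChange S' (gG.restrictScalars S) :=
      FlatPureHx.isBaseChange_of_isPushout (A := S) (B := C) (A' := S') (B' := C') hgG
    exact ⟨hf.equiv.symm.trans ((TensorProduct.AlgebraTensorModule.congr (LinearEquiv.refl S' S') iso).trans
      hgS.equiv)⟩
  · exact liesOver_map_away (fun s => by rw [← IsScalarTower.algebraMap_apply S S' C',
      ← IsScalarTower.algebraMap_apply S C C']) hX q hXq z _ hz'c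
  · exact liesOver_map_away (fun s => by rw [← IsScalarTower.algebraMap_apply D D' C',
      ← IsScalarTower.algebraMap_apply D C C']) hY y hYy z _ hz'c
  · intro z₂ _ hz₂
    haveI := hz₂
    have hzz : z₂.comap (algebraMap C C') = z := by
      refine h3 _ ⟨?_⟩
      rw [Ideal.under_def, Ideal.comap_comap, ← IsScalarTower.algebraMap_eq, IsScalarTower.algebraMap_eq D D' C',
        ← Ideal.comap_comap, ← Ideal.under_def D' (P := z₂), ← Ideal.over_def z₂ (Ideal.map (algebraMap D D') y), hy'c]
    rw [← hzz, ← Ideal.under_def, IsLocalization.map_comap (Submonoid.powers hZ) C']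
  · haveI := hy'p
    exact RG11.pureTrans_congr (RG11.TrivExt.of_localization g hg) (RG11.TrivExt.of_localization hY hYy) h4

end Groth.Agent.DevissBCHx
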