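import Groth.Agent.DevissBCHx.ShrinkStep

/-!
# Choosing the elements of a standard shrinking
-/

set_option linter.style.haveILetI false
set_option backward.isDefEq.respectTransparency false
set_option maxHeartbeats 1000000

universe u

namespace Groth.Agent.DevissBCHx

theorem smooth_of_smoothRelDim {R D : Type u} [CommRing R] [CommRing D] [Algebra R D] {n : ℕ}
    (h : FlatCA.SmoothRelDim n R D) : Algebra.Smooth R D := by
  haveI := h
  have h2 := AlgebraicGeometry.SmoothOfRelativeDimension.smooth n
    (AlgebraicGeometry.Spec.map (CommRingCat.ofHom (algebraMap R D)))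
  rw [AlgebraicGeometry.HasRingHomProperty.Spec_iff (P := @AlgebraicGeometry.Smooth)] at h2
  exact RingHom.smooth_algebraMap.1 h2

/-- Every element outside `y` becomes, after multiplication by a suitable element of the base, the equation of
an open whose image is the principal open of that element. -/
theorem exists_base_element {R D : Type u} [CommRing R] [CommRing D] [Algebra R D] [Algebra.Smooth R D]
    (p : Ideal R) (y : Ideal D) [y.IsPrime] [y.LiesOver p] (w : D) (hw : w ∉ y) :
    ∃ g ∉ p, w * algebraMap R D g ∉ y ∧ ∀ t : PrimeSpectrum R, g ∉ t.asIdeal →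
      ∃ P : PrimeSpectrum D, w * algebraMap R D g ∉ P.asIdeal ∧ P.asIdeal.comap (algebraMap R D) = t.asIdeal := by
  obtain ⟨g, hg, himg⟩ := exists_image_nhd (R := R) w y hw
  refine ⟨g, fun h => hg (by rwa [Ideal.over_def y p] at h),
    fun h => (Ideal.IsPrime.mem_or_mem inferInstance h).elim hw hg, fun t ht => ?_⟩
  obtain ⟨P, hwP, hPt⟩ := himg t ht
  exact ⟨P, fun h => (P.isPrime.mem_or_mem h).elim hwP fun hm => ht (hPt.le hm), hPt⟩

end Groth.Agent.DevissBCHx
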